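import Cfsg.Agent.Lib.JanWeak.Eight

/-!
# The action of the normalizer on the elementary subgroup
-/

set_option autoImplicit false
set_option linter.unusedSectionVars false
set_option linter.style.haveILetI false

namespace CfsgLib.JanWeak

open CfsgLib.JanOrder

variable {G : Type*} [Group G] [Finite G] {t : G}

namespace Wk

variable (D : Wk t)

/-- The action by conjugation. -/
def act : Subgroup.normalizer (D.eG : Set G) →* MulAut D.eG := D.eG.normalizerMonoidHom

theorem act_apply (n : Subgroup.normalizer (D.eG : Set G)) (e : D.eG) :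
    ((D.act n e : D.eG) : G) = (n : G) * e * (n : G)⁻¹ := rfl

/-- The stabilizer of the involution. -/
def stab : Subgroup D.act.range where
  carrier := {f | (f : MulAut D.eG) ⟨t, D.t_mem_eG⟩ = ⟨t, D.t_mem_eG⟩}
  one_mem' := rfl
  mul_mem' := fun {a b} (ha : (a : MulAut D.eG) _ = _) (hb : (b : MulAut D.eG) _ = _) => by
    show (a : MulAut D.eG) ((b : MulAut D.eG) _) = _
    rw [hb, ha]
  inv_mem' := fun {a} (ha : (a : MulAut D.eG) _ = _) => by
    show (a : MulAut D.eG)⁻¹ _ = _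
    conv_lhs => rw [← ha]
    simp

include D

theorem first_image {n : G} (hn : n ∈ Subgroup.normalizer (D.eG : Set G)) (ht : n * t * n⁻¹ = t)
    (i : Fin 3) : ∃ j, n * D.val (firstI i) * n⁻¹ = D.val (firstI j) := by
  obtain ⟨hI, h1, -⟩ := firstI_inE i
  obtain ⟨m, hm, hmv⟩ := (Subgroup.mem_normalizer_iff.1 hn _).1 ⟨firstI i, hI, rfl⟩
  have himg : ∀ a, ∃ a', D.val a' = n * D.val a * n⁻¹ := fun a => D.val_surj (by
    have h : n * D.val a * n⁻¹ ∈ (wc t).map (MulAut.conj n).toMonoidHom := ⟨_, D.val_mem a, rfl⟩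
    rwa [← wc_conj, ht] at h)
  obtain ⟨a, b, hab⟩ := comm_first i
  obtain ⟨a', ha'⟩ := himg a
  obtain ⟨b', hb'⟩ := himg b
  have hm' : m = a' * b' * a'⁻¹ * b'⁻¹ := D.val_inj (by
    rw [hmv, ← hab]
    simp only [map_mul, map_inv, ha', hb']
    group)
  have hm1 : m.1 = 1 := by
    rw [hm']
    simp [mul_comm a'.1 b'.1]
  have hne : m ≠ 1 := fun h => h1 (D.val_inj (by
    rw [h, map_one] at hmv
    rw [map_one]
    exact mul_eq_left.1 (mul_inv_eq_one.1 hmv.symm)))
  obtain ⟨j, rfl⟩ := inE_first' m hm hne hm1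
  exact ⟨j, hmv.symm⟩

theorem act_ext {n m : Subgroup.normalizer (D.eG : Set G)}
    (ht : (n : G) * t * (n : G)⁻¹ = (m : G) * t * (m : G)⁻¹)
    (h : ∀ i : Fin 2, (n : G) * D.val (firstI (Fin.castSucc i)) * (n : G)⁻¹ =
      (m : G) * D.val (firstI (Fin.castSucc i)) * (m : G)⁻¹) : D.act n = D.act m := by
  apply MulEquiv.ext
  rintro ⟨z, a, ha, rfl⟩
  apply Subtype.ext
  rw [act_apply, act_apply]
  obtain ⟨i, j, k, rfl⟩ := inE_span a ha
  show (MulAut.conj (n : G)) _ = (MulAut.conj (m : G)) _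
  have h0 : (MulAut.conj (n : G)) (D.val (firstI 0)) = (MulAut.conj (m : G)) (D.val (firstI 0)) := h 0
  have h1 : (MulAut.conj (n : G)) (D.val (firstI 1)) = (MulAut.conj (m : G)) (D.val (firstI 1)) := h 1
  have hτ : (MulAut.conj (n : G)) t = (MulAut.conj (m : G)) t := ht
  simp only [map_mul, map_pow, D.val_tau, h0, h1, hτ]

theorem card_stab_le : Nat.card D.stab ≤ 6 := by
  classical
  have hex : ∀ f : D.stab, ∃ p : {p : Fin 3 × Fin 3 // p.1 ≠ p.2},
      ((f : D.act.range) : MulAut D.eG) ⟨D.val (firstI 0), ⟨_, (firstI_inE 0).1, rfl⟩⟩ =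
        ⟨D.val (firstI p.1.1), ⟨_, (firstI_inE _).1, rfl⟩⟩ ∧
      ((f : D.act.range) : MulAut D.eG) ⟨D.val (firstI 1), ⟨_, (firstI_inE 1).1, rfl⟩⟩ =
        ⟨D.val (firstI p.1.2), ⟨_, (firstI_inE _).1, rfl⟩⟩ := by
    rintro ⟨⟨f, n, rfl⟩, hf⟩
    have ht : (n : G) * t * (n : G)⁻¹ = t := congrArg Subtype.val hf
    obtain ⟨j0, hj0⟩ := D.first_image n.2 ht 0
    obtain ⟨j1, hj1⟩ := D.first_image n.2 ht 1
    refine ⟨⟨(j0, j1), fun h => ?_⟩, Subtype.ext hj0, Subtype.ext hj1⟩
    simp only at h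
    rw [← h, ← hj0] at hj1
    exact absurd (D.val_inj (mul_left_cancel (mul_right_cancel hj1))) (by decide +kernel)
  choose p hp using hex
  have hinj : Function.Injective p := by
    rintro ⟨⟨f, n, rfl⟩, hf⟩ ⟨⟨f', m, rfl⟩, hf'⟩ h
    refine Subtype.ext (Subtype.ext (D.act_ext ?_ fun i => ?_))
    · exact (congrArg Subtype.val hf).trans (congrArg Subtype.val hf').symm
    · have e0 := (congrArg Subtype.val (hp _).1).trans
        (h ▸ (congrArg Subtype.val (hp ⟨⟨_, m, rfl⟩, hf'⟩).1).symm)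
      have e1 := (congrArg Subtype.val (hp _).2).trans
        (h ▸ (congrArg Subtype.val (hp ⟨⟨_, m, rfl⟩, hf'⟩).2).symm)
      fin_cases i
      · exact e0
      · exact e1
  refine (Nat.card_le_card_of_injective p hinj).trans ?_
  rw [Nat.card_eq_fintype_card]
  decide

/-- The stabilizer of two involutions acts trivially; an element of order seven is regular. -/
theorem exists_seven : ∃ γ : D.act.range, orderOf γ = 7 ∧
    (∀ f : D.act.range, ∃ m : ℕ, f * γ * f⁻¹ = γ ^ m) ∧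
    (∀ u : D.eG, u ≠ 1 → ∃ i < 7, ((γ ^ i : D.act.range) : MulAut D.eG) ⟨t, D.t_mem_eG⟩ = u) ∧
    Nat.card D.act.range ≤ 42 ∧
    ∀ f : D.act.range, (f : MulAut D.eG) ⟨t, D.t_mem_eG⟩ = ⟨t, D.t_mem_eG⟩ →
      (f : MulAut D.eG) ⟨D.val (firstI 0), ⟨_, (firstI_inE 0).1, rfl⟩⟩ =
        ⟨D.val (firstI 0), ⟨_, (firstI_inE 0).1, rfl⟩⟩ → f = 1 := by
  classical
  haveI : Fact (Nat.Prime 7) := ⟨by norm_num⟩
  set T0 : D.eG := ⟨t, D.t_mem_eG⟩ with hT0
  have hT01 : T0 ≠ 1 := fun h => D.ne_one (congrArg Subtype.val h)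
  let img : D.act.range → {u : D.eG // u ≠ 1} := fun f =>
    ⟨(f : MulAut D.eG) T0, fun h => hT01 ((f : MulAut D.eG).map_eq_one_iff.1 h)⟩
  have hsurj : ∀ u : {u : D.eG // u ≠ 1}, ∃ f, img f = u := by
    rintro ⟨⟨u, hu⟩, hu1⟩
    obtain ⟨n, hn, hnt⟩ := D.exists_norm hu fun h => hu1 (Subtype.ext h)
    exact ⟨⟨D.act ⟨n, hn⟩, _, rfl⟩, Subtype.ext (Subtype.ext hnt)⟩
  choose sec hsec using hsurj
  have hfib : ∀ f, (sec (img f))⁻¹ * f ∈ D.stab := fun f => by
    show ((sec (img f) : D.act.range) : MulAut D.eG)⁻¹ ((f : MulAut D.eG) T0) = T0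
    have h1 : ((sec (img f) : D.act.range) : MulAut D.eG) T0 = (f : MulAut D.eG) T0 :=
      congrArg Subtype.val (hsec (img f))
    rw [← h1]
    simp
  let e : D.act.range ≃ {u : D.eG // u ≠ 1} × D.stab :=
    { toFun := fun f => (img f, ⟨_, hfib f⟩)
      invFun := fun p => sec p.1 * p.2.1
      left_inv := fun f => by simp
      right_inv := fun ⟨u, s⟩ => by
        have h : img (sec u * s.1) = u := by
          refine Subtype.ext ?_
          show (sec u : MulAut D.eG) ((s.1 : MulAut D.eG) T0) = u.1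
          rw [s.2]
          exact congrArg Subtype.val (hsec u)
        refine Prod.ext h (Subtype.ext ?_)
        show (sec (img (sec u * s.1)))⁻¹ * (sec u * s.1) = s.1
        rw [h, inv_mul_cancel_left] }
  have h7 : Nat.card {u : D.eG // u ≠ 1} = 7 := by
    haveI := Fintype.ofFinite D.eG
    rw [Nat.card_eq_fintype_card, Fintype.card_subtype_compl, Fintype.card_subtype_eq,
      ← Nat.card_eq_fintype_card, D.eG_card]
  have hF : Nat.card D.act.range = 7 * Nat.card D.stab := by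
    rw [Nat.card_congr e, Nat.card_prod, h7]
  have hs6 := D.card_stab_le
  obtain ⟨γ, hγ⟩ := exists_prime_orderOf_dvd_card' (G := D.act.range) 7 (hF ▸ dvd_mul_right _ _)
  have hP : ∀ P : Sylow 7 D.act.range, Nat.card (P : Subgroup D.act.range) = 7 := fun P => by
    rw [P.card_eq_multiplicity, hF, Nat.factorization_mul (by norm_num) Nat.card_pos.ne',
      Finsupp.add_apply, Nat.Prime.factorization_self (by norm_num),
      Nat.factorization_eq_zero_of_not_dvd fun h => by
        have := Nat.le_of_dvd Nat.card_pos h; omega]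
    norm_num
  have hn1 : Nat.card (Sylow 7 D.act.range) = 1 := by
    obtain ⟨P⟩ := (inferInstance : Nonempty (Sylow 7 D.act.range))
    have hd := P.card_dvd_index
    have hidx : (P : Subgroup D.act.range).index = Nat.card D.stab := by
      have := (P : Subgroup D.act.range).card_mul_index
      rw [hP P, hF] at this
      omega
    rw [hidx] at hd
    have hle := (Nat.le_of_dvd Nat.card_pos hd).trans hs6
    have hm := card_sylow_modEq_one 7 D.act.range
    unfold Nat.ModEq at hm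
    rw [Nat.mod_eq_of_lt (show Nat.card (Sylow 7 D.act.range) < 7 by omega)] at hm
    simpa using hm
  have hnorm : ∀ f : D.act.range, ∃ m : ℕ, f * γ * f⁻¹ = γ ^ m := fun f => by
    haveI : Subsingleton (Sylow 7 D.act.range) := (Nat.card_eq_one_iff_unique.1 hn1).1
    obtain ⟨P, hP'⟩ := (IsPGroup.of_card (p := 7) (n := 1)
      (by rw [Nat.card_zpowers, hγ, pow_one] : Nat.card (Subgroup.zpowers γ) = _)).exists_le_sylow
    have hPe : (P : Subgroup D.act.range) = Subgroup.zpowers γ :=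
      (Subgroup.eq_of_le_of_card_ge hP' (by rw [Nat.card_zpowers, hγ, hP P])).symm
    have h : f * γ * f⁻¹ ∈ Subgroup.zpowers γ := by
      have hfP := congrArg (fun Q : Sylow 7 D.act.range => (Q : Subgroup D.act.range))
        (Subsingleton.elim (f • P) P)
      simp only [Sylow.smul_def] at hfP
      rw [← hPe, ← hfP]
      exact ⟨γ, hPe ▸ Subgroup.mem_zpowers γ, rfl⟩
    obtain ⟨m, hm⟩ := (mem_powers_iff_mem_zpowers.2 h : _ ∈ Submonoid.powers γ)
    exact ⟨m, hm.symm⟩
  have hfree : ∀ i : ℕ, ((γ ^ i : D.act.range) : MulAut D.eG) T0 = T0 → 7 ∣ i := fun i hi => by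
    by_contra h
    have ho : orderOf (γ ^ i) = 7 := by
      rw [orderOf_pow' γ (fun h0 => h (by rw [h0]; exact dvd_zero _)), hγ,
        Nat.Coprime.gcd_eq_one ((Nat.Prime.coprime_iff_not_dvd (by norm_num)).2 h), Nat.div_one]
    have hd : orderOf (⟨γ ^ i, show γ ^ i ∈ D.stab from hi⟩ : D.stab) ∣ Nat.card D.stab :=
      orderOf_dvd_natCard _
    rw [← Subgroup.orderOf_coe] at hd
    change orderOf (γ ^ i) ∣ _ at hd
    rw [ho] at hd
    have := Nat.le_of_dvd Nat.card_pos hd
    omega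
  have hbij : ∀ a b : ℕ, ((γ ^ a : D.act.range) : MulAut D.eG) T0 =
      ((γ ^ b : D.act.range) : MulAut D.eG) T0 → a % 7 = b % 7 := fun a b hab => by
    rw [← pow_mod_orderOf γ a, ← pow_mod_orderOf γ b, hγ] at hab
    obtain ⟨c, hc⟩ : ∃ c, (a % 7) + c = b % 7 + 7 := ⟨b % 7 + 7 - a % 7, by omega⟩
    have : ((γ ^ c : D.act.range) : MulAut D.eG) T0 = T0 := by
      apply (((γ ^ (a % 7) : D.act.range) : MulAut D.eG)).injective
      rw [← MulAut.mul_apply, ← Subgroup.coe_mul, ← pow_add, hc, pow_add,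
        show γ ^ 7 = 1 from hγ ▸ pow_orderOf_eq_one γ, mul_one, hab]
    have := hfree c this
    omega
  have horb : ∀ u : D.eG, u ≠ 1 → ∃ i < 7, ((γ ^ i : D.act.range) : MulAut D.eG) T0 = u := by
    let o : Fin 7 → {u : D.eG // u ≠ 1} := fun i => img (γ ^ (i : ℕ))
    have hinj : Function.Injective o := fun i j hij => by
      have := hbij i j (congrArg Subtype.val hij)
      exact Fin.ext (by have := i.2; have := j.2; omega)
    have hbj : Function.Bijective o := (Nat.bijective_iff_injective_and_card o).2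
      ⟨hinj, by rw [h7, Nat.card_eq_fintype_card, Fintype.card_fin]⟩
    intro u hu
    obtain ⟨i, hi⟩ := hbj.2 ⟨u, hu⟩
    exact ⟨i, i.2, congrArg Subtype.val hi⟩
  refine ⟨γ, hγ, hnorm, horb, by omega, fun f hft hfv => ?_⟩
  set V0 : D.eG := ⟨D.val (firstI 0), ⟨_, (firstI_inE 0).1, rfl⟩⟩
  have hV1 : V0 ≠ 1 := fun h => (firstI_inE 0).2.1 (D.val_inj
    ((congrArg Subtype.val h).trans (map_one D.val).symm))
  have hVT : V0 ≠ T0 := fun h => absurd (D.val_inj
    ((congrArg Subtype.val h).trans D.val_tau.symm)) (by decide +kernel)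
  obtain ⟨i, hi7, hi⟩ := horb V0 hV1
  obtain ⟨m, hm⟩ := hnorm f
  have hfinv : (f : MulAut D.eG)⁻¹ T0 = T0 := by
    conv_lhs => rw [← hft]
    simp
  have hconj : ∀ k : ℕ, (f : MulAut D.eG) (((γ ^ k : D.act.range) : MulAut D.eG) T0) =
      ((γ ^ (m * k) : D.act.range) : MulAut D.eG) T0 := fun k => by
    rw [pow_mul, ← hm, conj_pow]
    simp [hfinv]
  have hγm : γ ^ m = γ := by
    rcases Nat.eq_zero_or_pos i with rfl | hi0
    · exact absurd (by simpa using hi.symm) hVT
    have h := hconj i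
    rw [hi, hfv, ← hi] at h
    have hmi : m * i ≡ 1 * i [MOD 7] := by
      rw [one_mul]
      exact hbij _ _ h.symm
    have hm1 : m ≡ 1 [MOD 7] := Nat.ModEq.cancel_right_of_coprime
      ((Nat.Prime.coprime_iff_not_dvd (by norm_num)).2 fun h' => by
        have := Nat.le_of_dvd hi0 h'; omega) hmi
    conv_rhs => rw [← pow_one γ]
    rw [pow_eq_pow_iff_modEq, hγ]
    exact hm1
  apply Subtype.ext
  apply MulEquiv.ext
  intro u
  show (f : MulAut D.eG) u = u
  by_cases hu : u = 1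
  · rw [hu, map_one]
  obtain ⟨k, -, rfl⟩ := horb u hu
  rw [hconj k, pow_mul, hγm]

end Wk

end CfsgLib.JanWeak
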