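import Cfsg.Agent.Lib.JanOrder.Model

/-!
# Facts about `2 × A₅` for the weak closure argument
-/

set_option autoImplicit false
set_option synthInstance.maxSize 20000
set_option synthInstance.maxHeartbeats 400000

namespace CfsgLib.JanWeak

open CfsgLib.JanOrder

/-- An involution of the four group. -/
def vM : Mdl := (1, ⟨Equiv.swap 0 1 * Equiv.swap 2 3, by
    rw [Equiv.Perm.mem_alternatingGroup]; decide +kernel⟩)

/-- Another involution of the four group. -/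
def wM : Mdl := (1, ⟨Equiv.swap 0 2 * Equiv.swap 1 3, by
    rw [Equiv.Perm.mem_alternatingGroup]; decide +kernel⟩)

/-- The elements of the elementary subgroup of order eight. -/
def InE (m : Mdl) : Prop := (m.2 : Equiv.Perm (Fin 5)) 4 = 4 ∧ m * m = 1

instance : DecidablePred InE := fun m =>
  inferInstanceAs (Decidable ((m.2 : Equiv.Perm (Fin 5)) 4 = 4 ∧ m * m = 1))

theorem inE_mul : ∀ a, InE a → ∀ b, InE b → InE (a * b) ∧ a * b = b * a := by decide +kernel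

theorem inE_inv : ∀ a, InE a → InE a⁻¹ := by decide +kernel

theorem card_inE : (Finset.univ.filter fun m : Mdl => InE m).card = 8 := by decide +kernel

theorem inE_cases : ∀ m, InE m → m = 1 ∨ m = τM ∨ m = vM ∨ m = wM ∨ m = vM * wM ∨
    m = τM * vM ∨ m = τM * wM ∨ m = τM * (vM * wM) := by decide +kernel

theorem inE_gens : InE τM ∧ InE vM ∧ InE wM := by decide +kernel

theorem inE_first : ∀ m, InE m → m ≠ 1 → m.1 = 1 →
    m = vM ∨ m = xM * vM * xM⁻¹ ∨ m = xM⁻¹ * vM * xM := by decide +kernel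

theorem comm_v : ∃ a b : Mdl, a * b * a⁻¹ * b⁻¹ = vM := by decide +kernel

theorem vM_ne : vM ≠ 1 ∧ vM ≠ τM ∧ τM ≠ 1 ∧ τM * τM = 1 ∧ vM * vM = 1 ∧ vM.1 = 1 := by
  decide +kernel

theorem xM_norm : ∀ m, InE m → InE (xM * m * xM⁻¹) ∧ (xM * m * xM⁻¹ = m → m = 1 ∨ m = τM) := by
  decide +kernel

theorem conj_into_E : ∀ m : Mdl, m * m = 1 → ∃ n, InE (n * m * n⁻¹) := by decide +kernel

/-- Conjugation invariant sets of involutions of odd size contain all or just the central one. -/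
theorem odd_union : ∀ A B : Bool, Odd (Finset.univ.filter fun m : Mdl => m = τM ∨
    (A = true ∧ m * m = 1 ∧ m ≠ 1 ∧ m.1 = 1) ∨
    (B = true ∧ m * m = 1 ∧ m ≠ τM ∧ m.1 ≠ 1)).card → A = B := by decide +kernel

theorem inv_classes : ∀ m : Mdl, m * m = 1 → m ≠ 1 → m ≠ τM →
    (m.1 = 1 ∧ ∃ n, n * vM * n⁻¹ = m) ∨ (m.1 ≠ 1 ∧ ∃ n, n * (τM * vM) * n⁻¹ = m) := by
  decide +kernel

theorem card_invs : (Finset.univ.filter fun m : Mdl => m * m = 1 ∧ m ≠ 1).card = 31 := by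
  decide +kernel

theorem mdl_gens : ∀ m : Mdl, ∃ a, InE a ∧ ∃ i : Fin 3, m = a * xM ^ (i : ℕ) ∨
    ∃ b, InE b ∧ ∃ j : Fin 3, m = a * xM ^ (i : ℕ) * sM * (b * xM ^ (j : ℕ)) := by decide +kernel

theorem x_images : ∀ m : Mdl, m ^ 3 = 1 → m * vM * m⁻¹ = xM * vM * xM⁻¹ →
    m * wM * m⁻¹ = xM * wM * xM⁻¹ → ∃ a, InE a ∧ a * xM * a⁻¹ = m := by decide +kernel

/-- The products used to pin down `sM`. -/
def testElts : List Mdl := [xM, vM, wM, xM * vM, xM * wM, xM * xM]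

theorem s_images : ∀ m : Mdl, m * m = 1 → m ≠ 1 → m ≠ τM →
    (∀ a ∈ testElts, ((sM * a) ^ 2 = 1 ↔ (m * a) ^ 2 = 1) ∧ ((sM * a) ^ 3 = 1 ↔ (m * a) ^ 3 = 1) ∧
      ((sM * a) ^ 5 = 1 ↔ (m * a) ^ 5 = 1)) → m = sM := by decide +kernel

end CfsgLib.JanWeak

namespace CfsgLib.JanWeak

open CfsgLib.JanOrder

/-- The three involutions of the derived four group inside the elementary subgroup. -/
def firstI : Fin 3 → Mdl := ![vM, xM * vM * xM⁻¹, xM⁻¹ * vM * xM]

theorem firstI_inE : ∀ i, InE (firstI i) ∧ firstI i ≠ 1 ∧ (firstI i).1 = 1 := by decide +kernel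

theorem inE_span : ∀ m, InE m → ∃ i j k : Fin 2,
    m = τM ^ (i : ℕ) * (firstI 0 ^ (j : ℕ) * firstI 1 ^ (k : ℕ)) := by decide +kernel

theorem inE_first' : ∀ m, InE m → m ≠ 1 → m.1 = 1 → ∃ i, m = firstI i := by decide +kernel

theorem comm_first : ∀ i : Fin 3, ∃ a b : Mdl, a * b * a⁻¹ * b⁻¹ = firstI i := by decide +kernel

end CfsgLib.JanWeak
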