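import Mathlib
import Cfsg.Agent.Lib.JanWeak.Model

/-!
# An involution whose weak closure in its centralizer is `2 × A₅`: first consequences
-/

set_option autoImplicit false
set_option linter.unusedSectionVars false

namespace CfsgLib.JanWeak

open CfsgLib.JanOrder

variable {G : Type*} [Group G]

/-- The subgroup generated by the conjugates of an element commuting with it. -/
def wc (a : G) : Subgroup G := Subgroup.closure {x : G | IsConj a x ∧ x * a = a * x}

theorem wc_conj (g a : G) : wc (g * a * g⁻¹) = (wc a).map (MulAut.conj g).toMonoidHom := by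
  rw [wc, wc, MonoidHom.map_closure]
  congr 1
  ext x
  simp only [Set.mem_setOf_eq, Set.mem_image, MulEquiv.coe_toMonoidHom, MulAut.conj_apply]
  have hc : IsConj a (g * a * g⁻¹) := isConj_iff.2 ⟨g, rfl⟩
  constructor
  · rintro ⟨h1, h2⟩
    refine ⟨g⁻¹ * x * g, ⟨(hc.trans h1).trans (isConj_iff.2 ⟨g⁻¹, by group⟩), ?_⟩, by group⟩
    calc g⁻¹ * x * g * a = g⁻¹ * (x * (g * a * g⁻¹)) * g := by group
      _ = g⁻¹ * (g * a * g⁻¹ * x) * g := by rw [h2]
      _ = a * (g⁻¹ * x * g) := by group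
  · rintro ⟨y, ⟨h1, h2⟩, rfl⟩
    refine ⟨hc.symm.trans (h1.trans (isConj_iff.2 ⟨g, rfl⟩)), ?_⟩
    calc g * y * g⁻¹ * (g * a * g⁻¹) = g * (y * a) * g⁻¹ := by group
      _ = g * (a * y) * g⁻¹ := by rw [h2]
      _ = g * a * g⁻¹ * (g * y * g⁻¹) := by group

theorem wc_le_centralizer (a : G) : wc a ≤ Subgroup.centralizer ({a} : Set G) :=
  (Subgroup.closure_le _).2 fun _ hx => Subgroup.mem_centralizer_singleton_iff.2 hx.2

/-- A finite set with an involutive map: the parity of the fixed points. -/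
theorem odd_fixed {α : Type*} [Finite α] (f : α → α) (hf : ∀ x, f (f x) = x)
    (h : Odd (Nat.card α)) : Odd (Nat.card {x : α // f x = x}) := by
  haveI : Fact (Nat.Prime 2) := ⟨Nat.prime_two⟩
  classical
  haveI := Fintype.ofFinite α
  let f' : Function.End α := f
  have hf' : f' ^ 2 ^ 1 = 1 := funext fun x => hf x
  have hm := Equiv.Perm.card_fixedPoints_modEq (f := f') (p := 2) (n := 1) hf'
  rw [Nat.card_eq_fintype_card] at h
  rw [Nat.card_eq_fintype_card, Nat.odd_iff] at *
  unfold Nat.ModEq at hm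
  have : Fintype.card {x : α // f x = x} = Fintype.card (Function.fixedPoints f') :=
    Fintype.card_congr (Equiv.refl _)
  omega

/-- An involution whose weak closure in its centralizer is `2 × A₅`, in a class of odd size. -/
structure Wk [Finite G] (t : G) where
  ord : orderOf t = 2
  odd : Odd (Nat.card {x : G // IsConj t x})
  e : wc t ≃* Mdl

namespace Wk

variable [Finite G] {t : G} (D : Wk t)

/-- The hypothesis moves along the class. -/
noncomputable def of {a : G} (h : IsConj t a) : Wk a :=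
  have hg := isConj_iff.1 h
  { ord := by rw [← hg.choose_spec, ← MulAut.conj_apply, MulEquiv.orderOf_eq, D.ord]
    odd := by
      rw [Nat.card_congr (Equiv.subtypeEquivRight fun x =>
        ⟨fun hx => h.trans hx, fun hx => h.symm.trans hx⟩)]
      exact D.odd
    e := ((MulEquiv.subgroupCongr (by rw [← wc_conj, hg.choose_spec] :
        wc a = (wc t).map (MulAut.conj hg.choose).toMonoidHom)).trans
        ((wc t).equivMapOfInjective _ (MulEquiv.injective _)).symm).trans D.e }

/-- The weak closure as the image of the model. -/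
def val : Mdl →* G := (wc t).subtype.comp D.e.symm.toMonoidHom

include D

theorem val_inj : Function.Injective D.val := fun _ _ h => D.e.symm.injective (Subtype.ext h)

theorem val_mem (m : Mdl) : D.val m ∈ wc t := (D.e.symm m).2

theorem val_surj {x : G} (hx : x ∈ wc t) : ∃ m, D.val m = x :=
  ⟨D.e ⟨x, hx⟩, by simp [val]⟩

theorem tt : t * t = 1 := by rw [← pow_two, ← D.ord, pow_orderOf_eq_one]

theorem ne_one : t ≠ 1 := fun h => by
  have := D.ord
  rw [h, orderOf_one] at this
  norm_num at this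

theorem self_mem : t ∈ wc t := Subgroup.subset_closure ⟨IsConj.refl t, rfl⟩

theorem comm_t {x : G} (hx : x ∈ wc t) : x * t = t * x :=
  Subgroup.mem_centralizer_singleton_iff.1 (wc_le_centralizer t hx)

theorem val_tau : D.val τM = t := by
  obtain ⟨m, hm⟩ := D.val_surj D.self_mem
  rcases center_mdl m (fun n => D.val_inj (by rw [map_mul, map_mul, hm, D.comm_t (D.val_mem n)]))
    with rfl | rfl
  · exact absurd (hm.symm.trans (map_one _)) D.ne_one
  · exact hm

theorem sq_of_conj {x : G} (h : IsConj t x) : x * x = 1 ∧ x ≠ 1 := by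
  obtain ⟨g, rfl⟩ := isConj_iff.1 h
  exact ⟨by rw [show g * t * g⁻¹ * (g * t * g⁻¹) = g * (t * t) * g⁻¹ by group, D.tt, mul_one,
    mul_inv_cancel], fun h' => D.ne_one (mul_eq_left.1 (mul_inv_eq_one.1 h'))⟩

/-- The conjugates commuting with the involution are the involutions of its weak closure. -/
theorem comm_iff {x : G} :
    (IsConj t x ∧ x * t = t * x) ↔ ∃ m, D.val m = x ∧ m * m = 1 ∧ m ≠ 1 := by
  classical
  haveI := Fintype.ofFinite G
  set A : Bool := decide (IsConj t (D.val vM)) with hA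
  set B : Bool := decide (IsConj t (D.val (τM * vM))) with hB
  have hconj : ∀ m n : Mdl, IsConj (D.val m) (D.val (n * m * n⁻¹)) := fun m n =>
    isConj_iff.2 ⟨D.val n, by rw [map_mul, map_mul, map_inv]⟩
  have hchar : ∀ m : Mdl, IsConj t (D.val m) ↔ (m = τM ∨ (A = true ∧ m * m = 1 ∧ m ≠ 1 ∧ m.1 = 1) ∨
      (B = true ∧ m * m = 1 ∧ m ≠ τM ∧ m.1 ≠ 1)) := by
    intro m
    rw [hA, hB, decide_eq_true_iff, decide_eq_true_iff]
    constructor
    · intro h
      obtain ⟨h2, h1⟩ := D.sq_of_conj h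
      have hm2 : m * m = 1 := D.val_inj (by rw [map_mul, h2, map_one])
      have hm1 : m ≠ 1 := fun h' => h1 (by rw [h', map_one])
      by_cases hτ : m = τM
      · exact Or.inl hτ
      rcases inv_classes m hm2 hm1 hτ with ⟨hf, n, rfl⟩ | ⟨hf, n, rfl⟩
      · exact Or.inr (Or.inl ⟨h.trans (hconj vM n).symm, hm2, hm1, hf⟩)
      · exact Or.inr (Or.inr ⟨h.trans (hconj _ n).symm, hm2, hτ, hf⟩)
    · rintro (rfl | ⟨hv, hm2, hm1, hf⟩ | ⟨hv, hm2, hτ, hf⟩)
      · rw [D.val_tau]
      · have hτ : m ≠ τM := fun h => absurd (h ▸ hf : τM.1 = 1) (by decide)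
        rcases inv_classes m hm2 hm1 hτ with ⟨-, n, rfl⟩ | ⟨hf', -⟩
        · exact hv.trans (hconj vM n)
        · exact absurd hf hf'
      · have hm1 : m ≠ 1 := fun h => hf (by rw [h]; rfl)
        rcases inv_classes m hm2 hm1 hτ with ⟨hf', -⟩ | ⟨-, n, rfl⟩
        · exact absurd hf' hf
        · exact hv.trans (hconj _ n)
  have hmem : ∀ y : G, (IsConj t y ∧ y * t = t * y) → ∃ m, D.val m = y ∧ IsConj t (D.val m) :=
    fun y hy => by
      obtain ⟨m, rfl⟩ := D.val_surj (Subgroup.subset_closure hy)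
      exact ⟨m, rfl, hy.1⟩
  have hodd : Odd (Nat.card {m : Mdl // IsConj t (D.val m)}) := by
    have h := odd_fixed (fun y : {x : G // IsConj t x} =>
        (⟨t * y.1 * t⁻¹, y.2.trans (isConj_iff.2 ⟨t, rfl⟩)⟩ : {x : G // IsConj t x}))
      (fun y => Subtype.ext (by
        show t * (t * y.1 * t⁻¹) * t⁻¹ = y.1
        rw [inv_eq_of_mul_eq_one_right D.tt, show t * (t * y.1 * t) * t = t * t * y.1 * (t * t) by group,
          D.tt, one_mul, mul_one])) D.odd
    convert h using 1
    refine Nat.card_congr (Equiv.ofBijective (fun m => ⟨⟨D.val m.1, m.2⟩, Subtype.ext ?_⟩) ⟨?_, ?_⟩)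
    · show t * D.val m.1 * t⁻¹ = D.val m.1
      rw [← D.comm_t (D.val_mem m.1), mul_inv_cancel_right]
    · exact fun a b hab => Subtype.ext (D.val_inj (congrArg (fun z => z.1.1) hab))
    · rintro ⟨⟨y, hy⟩, hfix⟩
      have hfix' : t * y * t⁻¹ = y := congrArg Subtype.val hfix
      obtain ⟨m, rfl, hm⟩ := hmem y ⟨hy, (mul_inv_eq_iff_eq_mul.1 hfix').symm⟩
      exact ⟨⟨m, hm⟩, rfl⟩
  have hAB : A = B := odd_union A B (by
    rw [← Fintype.card_subtype, ← Nat.card_eq_fintype_card,
      ← Nat.card_congr (Equiv.subtypeEquivRight hchar)]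
    exact hodd)
  have hAt : A = true := by
    by_contra hA'
    have hA0 : A = false := by simpa using hA'
    have hle : wc t ≤ Subgroup.zpowers t := (Subgroup.closure_le _).2 fun y hy => by
      obtain ⟨m, rfl, hm⟩ := hmem y hy
      rcases (hchar m).1 hm with rfl | ⟨h, -⟩ | ⟨h, -⟩
      · rw [D.val_tau]; exact Subgroup.mem_zpowers t
      · rw [hA0] at h; exact absurd h (by decide)
      · rw [← hAB, hA0] at h; exact absurd h (by decide)
    have h120 : Nat.card (wc t) = 120 := by
      rw [Nat.card_congr D.e.toEquiv, Nat.card_eq_fintype_card, card_mdl]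
    have := Subgroup.card_le_of_le hle
    rw [Nat.card_zpowers, D.ord, h120] at this
    omega
  constructor
  · intro h
    obtain ⟨m, rfl, hm⟩ := hmem x h
    obtain ⟨h2, h1⟩ := D.sq_of_conj hm
    exact ⟨m, rfl, D.val_inj (by rw [map_mul, h2, map_one]), fun h' => h1 (by rw [h', map_one])⟩
  · rintro ⟨m, rfl, hm2, hm1⟩
    refine ⟨(hchar m).2 ?_, D.comm_t (D.val_mem m)⟩
    by_cases hτ : m = τM
    · exact Or.inl hτ
    by_cases hf : m.1 = 1
    · exact Or.inr (Or.inl ⟨hAt, hm2, hm1, hf⟩)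
    · exact Or.inr (Or.inr ⟨hAB ▸ hAt, hm2, hτ, hf⟩)

theorem conj_of_sq {x : G} (hx : x ∈ wc t) (h2 : x * x = 1) (h1 : x ≠ 1) :
    IsConj t x ∧ x * t = t * x := by
  obtain ⟨m, rfl⟩ := D.val_surj hx
  exact D.comm_iff.2 ⟨m, rfl, D.val_inj (by rw [map_mul, h2, map_one]),
    fun h' => h1 (by rw [h', map_one])⟩

theorem mem_wc_of_comm {a b : G} (hb : IsConj t b) (ha : IsConj t a) (h : b * a = a * b) :
    b ∈ wc a :=
  Subgroup.subset_closure ⟨ha.symm.trans hb, h⟩

/-- Two conjugates are conjugate in the dihedral group they generate or have a common neighbour. -/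
theorem dihedral {a b : G} (ha : IsConj t a) (hb : IsConj t b) :
    (∃ j : ℕ, (a * b) ^ j * a * ((a * b) ^ j)⁻¹ = b) ∨
      ∃ z, IsConj t z ∧ z * a = a * z ∧ z * b = b * z := by
  obtain ⟨ha2, ha1⟩ := D.sq_of_conj ha
  obtain ⟨hb2, -⟩ := D.sq_of_conj hb
  set r := a * b with hr
  have hsc : ∀ n : ℕ, a * r ^ n = (r ^ n)⁻¹ * a := fun n => by
    have h : SemiconjBy a r r⁻¹ := by
      show a * r = r⁻¹ * a
      rw [hr, ← mul_assoc, ha2, one_mul, mul_inv_rev, inv_eq_of_mul_eq_one_right ha2,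
        inv_eq_of_mul_eq_one_right hb2, mul_assoc, ha2, mul_one]
    rw [← inv_pow]
    exact (h.pow_right n).eq
  have hsc' : ∀ n : ℕ, r ^ n * a = a * (r ^ n)⁻¹ := fun n => by
    rw [eq_mul_inv_iff_mul_eq, mul_assoc, hsc n, ← mul_assoc, mul_inv_cancel, one_mul]
  have hpos : 0 < orderOf r := orderOf_pos r
  rcases Nat.even_or_odd' (orderOf r) with ⟨k, hk | hk⟩
  · right
    have hz2 : r ^ k * r ^ k = 1 := by rw [← pow_add, ← two_mul, ← hk, pow_orderOf_eq_one]
    have hz1 : r ^ k ≠ 1 := fun h => by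
      have := Nat.le_of_dvd (by omega) (orderOf_dvd_of_pow_eq_one h)
      omega
    have hza : r ^ k * a = a * r ^ k := by
      rw [hsc' k, inv_eq_of_mul_eq_one_right hz2]
    refine ⟨r ^ k, ?_, hza, ?_⟩
    · by_cases hza1 : a * r ^ k = 1
      · rwa [eq_inv_of_mul_eq_one_right hza1, inv_eq_of_mul_eq_one_right ha2]
      -- the reflection is a conjugate
      have href : IsConj t (a * r ^ k) := by
        rcases Nat.even_or_odd' k with ⟨j, hj | hj⟩
        · refine ha.trans (isConj_iff.2 ⟨(r ^ j)⁻¹, ?_⟩)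
          rw [inv_inv, ← hsc j, mul_assoc, ← pow_add, hj, two_mul]
        · refine hb.trans (isConj_iff.2 ⟨(r ^ j)⁻¹, ?_⟩)
          have hbr : b = a * r := by rw [hr, ← mul_assoc, ha2, one_mul]
          rw [inv_inv, hbr, ← mul_assoc, ← hsc j, mul_assoc, mul_assoc, ← pow_succ', ← pow_add, hj]
          congr 2
          ring
      have hmem : a * r ^ k ∈ wc a := mem_wc_of_comm D href ha (by
        rw [mul_assoc, hza, ← mul_assoc])
      have hz : r ^ k ∈ wc a := by
        have := mul_mem (D.of ha).self_mem hmem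
        rwa [← mul_assoc, ha2, one_mul] at this
      exact ha.trans ((D.of ha).conj_of_sq hz hz2 hz1).1
    · have hbr : b = a * r := by rw [hr, ← mul_assoc, ha2, one_mul]
      rw [hbr, ← mul_assoc, hza, mul_assoc, mul_assoc, ← pow_succ, ← pow_succ']
  · left
    refine ⟨k, ?_⟩
    have : r ^ k * a * (r ^ k)⁻¹ = a * r := by
      rw [hsc' k, mul_assoc, ← mul_inv_rev, ← pow_add, ← two_mul]
      congr 1
      rw [inv_eq_iff_mul_eq_one, ← pow_succ, ← hk, pow_orderOf_eq_one]
    rw [this, hr, ← mul_assoc, ha2, one_mul]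

end Wk

end CfsgLib.JanWeak
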