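import Cfsg.Agent.Lib.JanWeak.Local
import Cfsg.Agent.Lib.TwoTimesAlt.Five

/-!
# The connected component of the commuting graph on the class
-/

set_option autoImplicit false
set_option linter.unusedSectionVars false
set_option linter.style.haveILetI false

namespace CfsgLib.JanWeak

open CfsgLib.JanOrder
open scoped commutatorElement

variable {G : Type*} [Group G]

theorem tau_fst : τM.1 ≠ 1 := by decide +kernel

theorem pair_one : ∀ i : Multiplicative (ZMod 2),
    (i, (1 : alternatingGroup (Fin 5))) = (1 : Mdl) ∨ (i, (1 : alternatingGroup (Fin 5))) = τM := by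
  decide +kernel

/-- Commuting members of the class of `t`. -/
def Adj (t a b : G) : Prop := IsConj t a ∧ IsConj t b ∧ a * b = b * a

/-- The component of `t`. -/
def comp (t : G) : Set G := {a | Relation.ReflTransGen (Adj t) t a}

theorem comp_self (t : G) : t ∈ comp t := Relation.ReflTransGen.refl

theorem comp_conj {t a : G} (h : a ∈ comp t) : IsConj t a := by
  induction h with
  | refl => exact IsConj.refl t
  | tail _ h _ => exact h.2.1

theorem comp_step {t a b : G} (ha : a ∈ comp t) (hb : IsConj t b) (h : a * b = b * a) :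
    b ∈ comp t :=
  Relation.ReflTransGen.tail ha ⟨comp_conj ha, hb, h⟩

theorem reach_symm {t a b : G} (h : Relation.ReflTransGen (Adj t) a b) :
    Relation.ReflTransGen (Adj t) b a := by
  induction h with
  | refl => exact Relation.ReflTransGen.refl
  | tail _ h ih => exact Relation.ReflTransGen.head ⟨h.2.1, h.1, h.2.2.symm⟩ ih

theorem reach_conj {t a b : G} (g : G) (h : Relation.ReflTransGen (Adj t) a b) :
    Relation.ReflTransGen (Adj t) (g * a * g⁻¹) (g * b * g⁻¹) := by
  induction h with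
  | refl => exact Relation.ReflTransGen.refl
  | @tail c d _ h ih =>
    refine Relation.ReflTransGen.tail ih
      ⟨h.1.trans (isConj_iff.2 ⟨g, rfl⟩), h.2.1.trans (isConj_iff.2 ⟨g, rfl⟩), ?_⟩
    calc g * c * g⁻¹ * (g * d * g⁻¹) = g * (c * d) * g⁻¹ := by group
      _ = g * (d * c) * g⁻¹ := by rw [h.2.2]
      _ = g * d * g⁻¹ * (g * c * g⁻¹) := by group

/-- An element moving `t` inside the component stabilizes it. -/
theorem conj_comp {t g a : G} (hg : g * t * g⁻¹ ∈ comp t) (ha : a ∈ comp t) :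
    g * a * g⁻¹ ∈ comp t :=
  Relation.ReflTransGen.trans hg (reach_conj g ha)

theorem inv_conj_comp {t g : G} (hg : g * t * g⁻¹ ∈ comp t) : g⁻¹ * t * g ∈ comp t := by
  have h := reach_conj g⁻¹ (reach_symm hg)
  simpa [comp, mul_assoc] using h

/-- The stabilizer of the component. -/
def Mc (t : G) : Subgroup G where
  carrier := {g | g * t * g⁻¹ ∈ comp t}
  one_mem' := by
    show (1 : G) * t * 1⁻¹ ∈ comp t
    simpa using comp_self t
  mul_mem' := fun {a b} ha hb => by
    show a * b * t * (a * b)⁻¹ ∈ comp t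
    rw [show a * b * t * (a * b)⁻¹ = a * (b * t * b⁻¹) * a⁻¹ by group]
    exact conj_comp ha hb
  inv_mem' := fun {a} ha => by
    show a⁻¹ * t * a⁻¹⁻¹ ∈ comp t
    rw [inv_inv]
    exact inv_conj_comp ha

theorem mem_Mc {t g : G} : g ∈ Mc t ↔ g * t * g⁻¹ ∈ comp t := Iff.rfl

/-- The subgroup generated by the component. -/
def Hc (t : G) : Subgroup G := Subgroup.closure (comp t)

theorem Hc_le_Mc (t : G) : Hc t ≤ Mc t := (Subgroup.closure_le _).2 fun a ha => by
  refine Relation.ReflTransGen.trans ?_ (reach_symm (reach_conj a ha))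
  rw [mul_inv_cancel_right]
  exact ha

theorem wc_le_Hc {t a : G} (ha : a ∈ comp t) : wc a ≤ Hc t :=
  (Subgroup.closure_le _).2 fun _ hx =>
    Subgroup.subset_closure (comp_step ha ((comp_conj ha).trans hx.1) hx.2.symm)

theorem nb_le_Hc {t a : G} (ha : a ∈ comp t) : nb a ≤ Hc t :=
  iSup_le fun _ => iSup_le fun hv => iSup_le fun hc =>
    wc_le_Hc (comp_step ha ((comp_conj ha).trans hv) hc.symm)

variable [Finite G] {t : G}

namespace Wk

variable (D : Wk t)

include D

theorem rt_eq {a : G} (ha : a ∈ comp t) : rt a = rt t := by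
  induction ha with
  | refl => rfl
  | @tail c d hc h ih =>
    rw [← ih]
    exact le_antisymm ((D.of h.2.1).rt_adj (h.2.1.symm.trans h.1) h.2.2)
      ((D.of h.1).rt_adj (h.1.symm.trans h.2.1) h.2.2.symm)

theorem rt_eq_centralizer : rt t = Subgroup.centralizer (Hc t : Set G) := by
  refine le_antisymm (fun r hr => ?_) fun r hr => mem_rt.2 fun v hv hvt =>
    Subgroup.centralizer_le (SetLike.coe_subset_coe.2 (wc_le_Hc (comp_step (comp_self t) hv hvt.symm))) hr
  rw [Hc, Subgroup.centralizer_closure]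
  refine Subgroup.mem_centralizer_iff.2 fun a ha => ?_
  rw [← D.rt_eq ha] at hr
  exact Subgroup.mem_centralizer_iff.1 ((D.of (comp_conj ha)).rt_le hr) a (D.of (comp_conj ha)).self_mem

theorem comm_rt {h r : G} (hh : h ∈ Hc t) (hr : r ∈ rt t) : h * r = r * h := by
  rw [D.rt_eq_centralizer] at hr
  exact Subgroup.mem_centralizer_iff.1 hr h hh

theorem exists_conj_comp {a : G} (ha : a ∈ comp t) : ∃ h ∈ Hc t, h * t * h⁻¹ = a := by
  induction ha with
  | refl => exact ⟨1, one_mem _, by simp⟩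
  | @tail c d hc h ih =>
    obtain ⟨k, hk, hkc⟩ := ih
    obtain ⟨l, hl, hld⟩ := (D.of h.1).conj_adj (h.1.symm.trans h.2.1) h.2.2.symm
    refine ⟨l * k, mul_mem (nb_le_Hc hc hl) hk, ?_⟩
    rw [show l * k * t * (l * k)⁻¹ = l * (k * t * k⁻¹) * l⁻¹ by group, hkc, hld]

/-- The stabilizer of the component. -/
theorem Mc_cases {g : G} (hg : g ∈ Mc t) : ∃ h ∈ Hc t, ∃ r ∈ rt t, g = h * r := by
  obtain ⟨h, hh, hht⟩ := D.exists_conj_comp hg
  have hc : h⁻¹ * g * t = t * (h⁻¹ * g) := by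
    calc h⁻¹ * g * t = h⁻¹ * (g * t * g⁻¹) * g := by group
      _ = h⁻¹ * (h * t * h⁻¹) * g := by rw [hht]
      _ = t * (h⁻¹ * g) := by group
  obtain ⟨w, hw, r, hr, he⟩ := D.cent_eq hc
  exact ⟨h * w, mul_mem hh (wc_le_Hc (comp_self t) hw), r, hr, by
    rw [mul_assoc, ← he, mul_inv_cancel_left]⟩

theorem perfect {a : G} (ha : a ∈ comp t) : a ∈ ⁅Hc t, Hc t⁆ := by
  obtain ⟨u, hu, hua, x, hx, y, hy, hxy⟩ := (D.of (comp_conj ha)).mem_commutator
  have hle : wc u ≤ Hc t := wc_le_Hc (comp_step ha ((comp_conj ha).trans hu) hua.symm)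
  rw [← hxy]
  exact Subgroup.commutator_mem_commutator (hle hx) (hle hy)

theorem mem_center_iff {z : Hc t} : z ∈ Subgroup.center (Hc t) ↔ (z : G) ∈ rt t := by
  rw [D.rt_eq_centralizer, Subgroup.mem_center_iff, Subgroup.mem_centralizer_iff]
  exact ⟨fun h x hx => congrArg Subtype.val (h ⟨x, hx⟩), fun h x => Subtype.ext (h x x.2)⟩

theorem eq_of_mul {a z : G} (ha : a ∈ comp t) (hz : z ∈ rt t) (hc : IsConj t (a * z)) : z = 1 := by
  have Da := D.of (comp_conj ha)
  rw [← D.rt_eq ha] at hz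
  have hcomm : a * z = z * a :=
    Subgroup.mem_centralizer_iff.1 (Da.rt_le hz) a Da.self_mem
  have h : a * z ∈ wc a := mem_wc_of_comm D hc (comp_conj ha) (by
    rw [mul_assoc, ← hcomm, ← mul_assoc])
  exact Da.wc_inf_rt (by simpa using mul_mem (inv_mem Da.self_mem) h) hz

theorem odd_comp : Odd (Nat.card (comp t)) := by
  classical
  haveI : Fact (Nat.Prime 2) := ⟨Nat.prime_two⟩
  haveI := Fintype.ofFinite (comp t)
  let f : Function.End (comp t) := fun a => ⟨t * a.1 * t⁻¹, conj_comp (by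
    rw [mul_inv_cancel_right]; exact comp_self t) a.2⟩
  have hf : f ^ 2 ^ 1 = 1 := funext fun a => Subtype.ext (by
    show t * (t * a.1 * t⁻¹) * t⁻¹ = a.1
    rw [inv_eq_of_mul_eq_one_right D.tt, show t * (t * a.1 * t) * t = t * t * a.1 * (t * t) by group,
      D.tt, one_mul, mul_one])
  have hm := Equiv.Perm.card_fixedPoints_modEq (f := f) (p := 2) (n := 1) hf
  have hfix : Fintype.card (Function.fixedPoints f) = 31 := by
    rw [← card_invs, ← Fintype.card_subtype]
    have hin : ∀ m : {m : Mdl // m * m = 1 ∧ m ≠ 1}, D.val m.1 ∈ comp t := fun m => by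
      obtain ⟨h1, h2⟩ := D.comm_iff.2 ⟨m.1, rfl, m.2⟩
      exact comp_step (comp_self t) h1 h2.symm
    refine (Fintype.card_congr (Equiv.ofBijective (fun m : {m : Mdl // m * m = 1 ∧ m ≠ 1} =>
      (⟨⟨D.val m.1, hin m⟩, Subtype.ext (show t * D.val m.1 * t⁻¹ = D.val m.1 by
        rw [← D.comm_t (D.val_mem m.1), mul_inv_cancel_right])⟩ : Function.fixedPoints f))
      ⟨?_, ?_⟩)).symm
    · exact fun a b hab => Subtype.ext (D.val_inj (congrArg (fun z : Function.fixedPoints f => z.1.1) hab))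
    · rintro ⟨⟨a, ha⟩, hfx⟩
      have hfx' : t * a * t⁻¹ = a := congrArg Subtype.val hfx
      obtain ⟨m, rfl, hm⟩ := D.comm_iff.1 ⟨comp_conj ha, (mul_inv_eq_iff_eq_mul.1 hfx').symm⟩
      exact ⟨⟨m, hm⟩, rfl⟩
  rw [Nat.card_eq_fintype_card, Nat.odd_iff]
  unfold Nat.ModEq at hm
  omega

/-- The alternating group inside the quotient by the centre. -/
def altHom : alternatingGroup (Fin 5) →* Hc t ⧸ Subgroup.center (Hc t) :=
  (QuotientGroup.mk' _).comp ((D.val.comp (MonoidHom.inr _ _)).codRestrict (Hc t)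
    fun _ => wc_le_Hc (comp_self t) (D.val_mem _))

theorem quotient_facts :
    IsSimpleGroup (Hc t ⧸ Subgroup.center (Hc t)) ∧
      Nat.card (Hc t ⧸ Subgroup.center (Hc t)) = 175560 ∧
      (∀ q : Hc t ⧸ Subgroup.center (Hc t), q * q = 1 → q ≠ 1 →
        ∃ a : Hc t, (a : G) ∈ comp t ∧ (QuotientGroup.mk a : Hc t ⧸ Subgroup.center (Hc t)) = q) ∧
      Nat.card (comp t) = 1463 ∧
      ∀ a : Hc t, (a : G) ∈ comp t → Nonempty (Subgroup.centralizer
        ({(QuotientGroup.mk a : Hc t ⧸ Subgroup.center (Hc t))} : Set (Hc t ⧸ Subgroup.center (Hc t)))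
          ≃* Mdl) := by
  classical
  haveI : Fact (Nat.Prime 2) := ⟨Nat.prime_two⟩
  set Z := Subgroup.center (Hc t)
  have htH : t ∈ Hc t := Subgroup.subset_closure (comp_self t)
  set J : Hc t ⧸ Z := QuotientGroup.mk ⟨t, htH⟩ with hJ
  have hmem : ∀ {a : G}, a ∈ comp t → a ∈ Hc t := fun ha => Subgroup.subset_closure ha
  have hmk : ∀ x y : Hc t, (QuotientGroup.mk x : Hc t ⧸ Z) = QuotientGroup.mk y ↔
      ∃ z ∈ rt t, (y : G) = x * z := fun x y => by
    rw [QuotientGroup.eq, D.mem_center_iff]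
    refine ⟨fun h => ⟨_, h, by simp⟩, fun ⟨z, hz, he⟩ => ?_⟩
    simp only [Subgroup.coe_mul, InvMemClass.coe_inv, he, inv_mul_cancel_left]
    exact hz
  -- the class
  have hclass : ∀ q, IsConj J q ↔ ∃ a, ∃ ha : a ∈ comp t, QuotientGroup.mk ⟨a, hmem ha⟩ = q := by
    intro q
    constructor
    · intro h
      obtain ⟨g, hg⟩ := isConj_iff.1 h
      obtain ⟨x, rfl⟩ := QuotientGroup.mk_surjective g
      exact ⟨x * t * x⁻¹, Hc_le_Mc t x.2, by rw [← hg]; rfl⟩
    · rintro ⟨a, ha, rfl⟩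
      obtain ⟨h, hh, rfl⟩ := D.exists_conj_comp ha
      exact isConj_iff.2 ⟨QuotientGroup.mk ⟨h, hh⟩, rfl⟩
  have hcls : Nat.card {q : Hc t ⧸ Z // IsConj J q} = Nat.card (comp t) := by
    refine (Nat.card_congr (Equiv.ofBijective (fun a : comp t =>
      (⟨QuotientGroup.mk ⟨a.1, hmem a.2⟩, (hclass _).2 ⟨a.1, a.2, rfl⟩⟩ :
        {q : Hc t ⧸ Z // IsConj J q})) ⟨fun a b hab => ?_, ?_⟩)).symm
    · obtain ⟨z, hz, he⟩ := (hmk _ _).1 (congrArg Subtype.val hab)
      change b.1 = a.1 * z at he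
      have hz1 := D.eq_of_mul a.2 hz (he ▸ comp_conj b.2)
      exact Subtype.ext (by rw [he, hz1, mul_one])
    · rintro ⟨q, hq⟩
      obtain ⟨a, ha, rfl⟩ := (hclass q).1 hq
      exact ⟨⟨a, ha⟩, rfl⟩
  have hJ1 : J ≠ 1 := fun h => by
    rw [hJ, QuotientGroup.eq_one_iff, D.mem_center_iff] at h
    exact D.ne_one (D.wc_inf_rt D.self_mem h)
  have hord : orderOf J = 2 := orderOf_eq_prime (by
    rw [pow_two, hJ, ← QuotientGroup.mk_mul,
      show (⟨t, htH⟩ : Hc t) * ⟨t, htH⟩ = 1 from Subtype.ext D.tt]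
    rfl) hJ1
  -- the centralizer
  have hcent : ∀ q : Hc t ⧸ Z, q * J = J * q → ∃ m : Mdl,
      QuotientGroup.mk ⟨D.val m, wc_le_Hc (comp_self t) (D.val_mem m)⟩ = q := by
    intro q hq
    obtain ⟨x, rfl⟩ := QuotientGroup.mk_surjective q
    obtain ⟨z, hz, he⟩ := (hmk (⟨t, htH⟩ * x) (x * ⟨t, htH⟩)).1
      (by rw [QuotientGroup.mk_mul, QuotientGroup.mk_mul]; exact hq.symm)
    simp only [Subgroup.coe_mul] at he
    have hxz : x.1 * z = z * x.1 := D.comm_rt x.2 hz
    have he' : (x : G) * t * (x : G)⁻¹ = t * z := by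
      rw [he, mul_assoc t, hxz]
      group
    have hz1 := D.eq_of_mul (comp_self t) hz (he' ▸ comp_conj (Hc_le_Mc t x.2))
    rw [hz1, mul_one] at he
    obtain ⟨w, hw, r, hr, hwr⟩ := D.cent_eq he
    obtain ⟨m, rfl⟩ := D.val_surj hw
    exact ⟨m, (hmk _ _).2 ⟨r, hr, hwr⟩⟩
  have hψ : ∀ b, D.altHom b =
      QuotientGroup.mk ⟨D.val (1, b), wc_le_Hc (comp_self t) (D.val_mem _)⟩ := fun b => rfl
  have hψinj : Function.Injective D.altHom := (injective_iff_map_eq_one _).2 fun b hb => by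
    rw [hψ, QuotientGroup.eq_one_iff, D.mem_center_iff] at hb
    exact congrArg Prod.snd (D.val_inj ((D.wc_inf_rt (D.val_mem _) hb).trans (map_one _).symm))
  have hcommJ : ∀ m : Mdl, (QuotientGroup.mk ⟨D.val m, wc_le_Hc (comp_self t) (D.val_mem m)⟩ :
      Hc t ⧸ Z) * J = J * QuotientGroup.mk ⟨D.val m, wc_le_Hc (comp_self t) (D.val_mem m)⟩ := fun m => by
    rw [hJ, ← QuotientGroup.mk_mul, ← QuotientGroup.mk_mul]
    exact congrArg _ (Subtype.ext (D.comm_t (D.val_mem m)))
  set T := D.altHom.range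
  have hTC : T ≤ Subgroup.centralizer ({J} : Set (Hc t ⧸ Z)) := by
    rintro _ ⟨b, rfl⟩
    exact Subgroup.mem_centralizer_singleton_iff.2 (hcommJ _)
  have hprod : Cfsg.IsInternalDirectProduct (Subgroup.zpowers J) T
      (Subgroup.centralizer ({J} : Set (Hc t ⧸ Z))) := by
    refine ⟨Subgroup.zpowers_le.2 (Subgroup.mem_centralizer_singleton_iff.2 rfl), hTC, ?_, ?_, ?_⟩
    · intro a ha b hb
      obtain ⟨k, rfl⟩ := ha
      exact ((show Commute J b from (Subgroup.mem_centralizer_singleton_iff.1 (hTC hb)).symm).zpow_left k).eq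
    · refine eq_bot_iff.2 fun q hq => ?_
      obtain ⟨hq1, b, rfl⟩ := hq
      rcases (Int.even_or_odd hq1.choose) with ⟨k, hk⟩ | ⟨k, hk⟩
      · rw [Subgroup.mem_bot, ← hq1.choose_spec]
        show J ^ hq1.choose = 1
        rw [hk, ← two_mul, zpow_mul, zpow_two, ← pow_two, ← hord, pow_orderOf_eq_one, one_zpow]
      · exfalso
        have h : D.altHom b = J := by
          rw [← hq1.choose_spec]
          show J ^ hq1.choose = J
          rw [hk, zpow_add_one, zpow_mul, zpow_two, ← pow_two, ← hord, pow_orderOf_eq_one, one_zpow,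
            one_mul]
        rw [hψ, hJ] at h
        obtain ⟨z, hz, he⟩ := (hmk _ _).1 h
        change t = D.val (1, b) * z at he
        have hz1 := D.wc_inf_rt (show z ∈ wc t by
          rw [show z = (D.val (1, b))⁻¹ * t from eq_inv_mul_of_mul_eq he.symm]
          exact mul_mem (inv_mem (D.val_mem _)) D.self_mem) hz
        rw [hz1, mul_one] at he
        exact tau_fst (congrArg Prod.fst (D.val_inj (D.val_tau.trans he)))
    · refine le_antisymm (sup_le (Subgroup.zpowers_le.2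
        (Subgroup.mem_centralizer_singleton_iff.2 rfl)) hTC) fun q hq => ?_
      obtain ⟨⟨i, b⟩, rfl⟩ := hcent q (Subgroup.mem_centralizer_singleton_iff.1 hq)
      have hsplit : ((i, b) : Mdl) = (i, 1) * (1, b) := by simp
      have hi : (i, (1 : alternatingGroup (Fin 5))) = (1 : Mdl) ∨
          (i, (1 : alternatingGroup (Fin 5))) = τM :=
        pair_one i
      have hqs : (QuotientGroup.mk ⟨D.val (i, b), wc_le_Hc (comp_self t) (D.val_mem _)⟩ : Hc t ⧸ Z) =
          QuotientGroup.mk ⟨D.val (i, 1), wc_le_Hc (comp_self t) (D.val_mem _)⟩ * D.altHom b := by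
        rw [hψ, ← QuotientGroup.mk_mul]
        exact congrArg _ (Subtype.ext (show D.val (i, b) = D.val (i, 1) * D.val (1, b) by
          rw [← map_mul, ← hsplit]))
      rw [hqs]
      refine Subgroup.mul_mem_sup ?_ ⟨b, rfl⟩
      rcases hi with hi | hi
      · simp only [hi, map_one]
        exact one_mem (Subgroup.zpowers J)
      · simp only [hi, D.val_tau]
        exact Subgroup.mem_zpowers J
  -- a Sylow subgroup centralizing the involution
  have hidx : ¬ 2 ∣ (Subgroup.centralizer ({J} : Set (Hc t ⧸ Z))).index := by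
    intro h
    have hci := CfsgLib.Chars.card_isConj_mul_card_centralizer J
    rw [hcls] at hci
    have : Nat.card (comp t) = (Subgroup.centralizer ({J} : Set (Hc t ⧸ Z))).index := by
      rw [Subgroup.index_eq_card]
      have h2 := (Subgroup.centralizer ({J} : Set (Hc t ⧸ Z))).card_mul_index
      rw [Subgroup.index_eq_card] at h2
      rw [mul_comm] at hci
      exact Nat.eq_of_mul_eq_mul_left Nat.card_pos (hci.trans h2.symm)
    have ho := D.odd_comp
    rw [this, Nat.odd_iff] at ho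
    omega
  set C := Subgroup.centralizer ({J} : Set (Hc t ⧸ Z))
  obtain ⟨P⟩ := (inferInstance : Nonempty (Sylow 2 C))
  let S : Sylow 2 (Hc t ⧸ Z) := (P.2.map C.subtype).toSylow (by
    rw [Subgroup.index_map_subtype]
    exact fun h => (Nat.Prime.dvd_mul Nat.prime_two).1 h |>.elim P.not_dvd_index hidx)
  have hSC : (S : Subgroup (Hc t ⧸ Z)) ≤ C := fun x hx => by
    obtain ⟨y, -, rfl⟩ := hx
    exact y.2
  have hJS : J ∈ (S : Subgroup (Hc t ⧸ Z)) := by
    refine ⟨⟨J, Subgroup.mem_centralizer_singleton_iff.2 rfl⟩, ?_, rfl⟩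
    set Jc : C := ⟨J, Subgroup.mem_centralizer_singleton_iff.2 rfl⟩
    have hz : Jc ∈ Subgroup.center C := Subgroup.mem_center_iff.2 fun y =>
      Subtype.ext (Subgroup.mem_centralizer_singleton_iff.1 y.2)
    have hp : IsPGroup 2 (Subgroup.zpowers Jc) := IsPGroup.of_card (n := 1) (by
      rw [Nat.card_zpowers, Subgroup.orderOf_mk, hord, pow_one])
    haveI : (Subgroup.zpowers Jc).Normal := ⟨fun n hn g => by
      rwa [Subgroup.mem_center_iff.1 (Subgroup.zpowers_le.2 hz hn) g, mul_inv_cancel_right]⟩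
    exact (P.3 (hp.to_sup_of_normal_left P.2) le_sup_right).le
      (Subgroup.mem_sup_left (Subgroup.mem_zpowers Jc))
  have no2 : ∀ N : Subgroup (Hc t ⧸ Z), N.Normal → N.index ≠ 2 := by
    intro N hN h2
    set K := N.comap (QuotientGroup.mk' Z)
    have hK : K.index = 2 := by
      rw [Subgroup.index_comap_of_surjective _ (QuotientGroup.mk'_surjective _), h2]
    haveI : K.Normal := inferInstance
    have hcomm : ∀ a b : Hc t ⧸ K, a * b = b * a := by
      haveI : IsCyclic (Hc t ⧸ K) := isCyclic_of_prime_card (p := 2)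
        (by rw [← Subgroup.index_eq_card, hK])
      exact (inferInstance : IsMulCommutative (Hc t ⧸ K)).is_comm.comm
    have hall : ∀ a : G, a ∈ ⁅Hc t, Hc t⁆ → ∀ ha : a ∈ Hc t, (⟨a, ha⟩ : Hc t) ∈ K := by
      have hle : ⁅Hc t, Hc t⁆ ≤ K.map (Hc t).subtype := Subgroup.commutator_le.2 fun a ha b hb => by
        refine ⟨⁅(⟨a, ha⟩ : Hc t), ⟨b, hb⟩⁆, ?_, rfl⟩
        rw [SetLike.mem_coe, ← QuotientGroup.eq_one_iff, ← QuotientGroup.mk'_apply, map_commutatorElement,
          commutatorElement_eq_one_iff_mul_comm, hcomm]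
      intro a ha ha'
      obtain ⟨k, hk, hka⟩ := hle ha
      rwa [show (⟨a, ha'⟩ : Hc t) = k from Subtype.ext hka.symm]
    have htop : Hc t ≤ K.map (Hc t).subtype := (Subgroup.closure_le _).2 fun a ha =>
      ⟨⟨a, hmem ha⟩, hall a (D.perfect ha) _, rfl⟩
    have : K = ⊤ := eq_top_iff.2 fun x _ => by
      obtain ⟨k, hk, hkx⟩ := htop x.2
      rwa [← Subtype.ext hkx]
    rw [this, Subgroup.index_top] at hK
    omega
  have D' : TwoTimesAlt.Cfg J T :=
    ⟨hord, S, hJS, fun s hs => Subgroup.mem_centralizer_singleton_iff.1 (hSC hs), hprod, no2⟩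
  have e := (MonoidHom.ofInjective hψinj).symm
  obtain ⟨hsimple, hcard, ⟨eC⟩⟩ := D'.degree_five e
  have hA : TwoTimesAlt.SmallAlt T := TwoTimesAlt.smallAlt_five.of_equiv e
  refine ⟨hsimple, hcard, fun q hq hq1 => ?_, ?_, fun a ha => ?_⟩
  · obtain ⟨a, ha, rfl⟩ := (hclass q).1 (D'.all_conj hA hq hq1)
    exact ⟨⟨a, hmem ha⟩, ha, rfl⟩
  · have hci := CfsgLib.Chars.card_isConj_mul_card_centralizer J
    rw [hcls, hcard, Nat.card_congr eC.toEquiv, Nat.card_eq_fintype_card (α := Mdl), card_mdl] at hci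
    omega
  · obtain ⟨g, hg⟩ := isConj_iff.1 ((hclass _).2 ⟨a.1, ha, rfl⟩)
    refine ⟨((MulEquiv.subgroupCongr ?_).trans
      ((Subgroup.centralizer ({J} : Set (Hc t ⧸ Z))).equivMapOfInjective
        (MulAut.conj g).toMonoidHom (MulEquiv.injective _)).symm).trans eC⟩
    ext y
    rw [Subgroup.mem_map_equiv, Subgroup.mem_centralizer_singleton_iff,
      Subgroup.mem_centralizer_singleton_iff, MulAut.conj_symm_apply, ← hg]
    constructor <;> intro h
    · calc g⁻¹ * y * g * J = g⁻¹ * (y * (g * J * g⁻¹)) * g := by group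
        _ = g⁻¹ * (g * J * g⁻¹ * y) * g := by rw [h]
        _ = J * (g⁻¹ * y * g) := by group
    · calc y * (g * J * g⁻¹) = g * (g⁻¹ * y * g * J) * g⁻¹ := by group
        _ = g * (J * (g⁻¹ * y * g)) * g⁻¹ := by rw [h]
        _ = g * J * g⁻¹ * y := by group

end Wk

end CfsgLib.JanWeak
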