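import Mathlib
import Cfsg.Agent.Lib.LocalEven.Order175560

/-!
# Subgroups of odd order in a simple group of order 175560 with involution centralizers of order 120
-/

set_option autoImplicit false
set_option linter.style.haveILetI false

namespace CfsgLib.JanWeak

theorem divisors_big : ∀ d ∈ Nat.divisors 21945, 1463 ≤ d → 19 ∣ d := by decide +kernel

theorem norm_options : ∀ k ∈ Nat.divisors 2310, k % 19 = 6 → k = 6 ∨ k = 462 := by decide +kernel

theorem odd_subgroup_lt {Q : Type*} [Group Q] [Finite Q] [IsSimpleGroup Q]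
    (hcard : Nat.card Q = 175560)
    (hinv : ∀ u : Q, orderOf u = 2 → Nat.card (Subgroup.centralizer ({u} : Set Q)) = 120)
    (U : Subgroup Q) (hU : Odd (Nat.card U)) : Nat.card U < 1463 := by
  classical
  by_contra hge
  rw [not_lt] at hge
  haveI : Fact (Nat.Prime 19) := ⟨by norm_num⟩
  have hUd : Nat.card U ∣ 21945 := by
    have hd : Nat.card U ∣ 2 ^ 3 * 21945 := by
      rw [show 2 ^ 3 * 21945 = 175560 from rfl, ← hcard]; exact Subgroup.card_subgroup_dvd_card U
    exact (Nat.Coprime.pow_right 3 (Nat.coprime_two_right.2 hU)).dvd_of_dvd_mul_left hd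
  have h19 : 19 ∣ Nat.card U := divisors_big _ (Nat.mem_divisors.2 ⟨hUd, by norm_num⟩) hge
  have hne : Nat.card U ≠ 175560 := fun h => by
    rw [h] at hU; exact absurd hU (by decide)
  obtain ⟨x, hx⟩ := exists_prime_orderOf_dvd_card' (G := U) 19 h19
  have hxQ : orderOf (x : Q) = 19 := by rw [Subgroup.orderOf_coe, hx]
  have hfac : (175560 : ℕ).factorization 19 = 1 := by
    rw [show (175560 : ℕ) = 19 * 9240 from rfl, Nat.factorization_mul (by norm_num) (by norm_num),
      Finsupp.add_apply, Nat.Prime.factorization_self (by norm_num),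
      Nat.factorization_eq_zero_of_not_dvd (show ¬ 19 ∣ 9240 by norm_num)]
  let P : Sylow 19 Q := Sylow.ofCard (Subgroup.zpowers (x : Q)) (by
    rw [Nat.card_zpowers, hxQ, hcard, hfac, pow_one])
  have hP : (P : Subgroup Q) = Subgroup.zpowers (x : Q) := rfl
  set N := Subgroup.normalizer ((P : Subgroup Q) : Set Q)
  -- `U` normalizes the Sylow subgroup
  have hUN : U ≤ N := by
    obtain ⟨PU, hPU⟩ := (IsPGroup.of_card (p := 19) (n := 1)
      (by rw [Nat.card_zpowers, hx, pow_one] : Nat.card (Subgroup.zpowers x) = _)).exists_le_sylow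
    haveI := CfsgLib.LocalEven.J1Order.normal_nineteen (Nat.card U) U rfl
      (hcard ▸ Subgroup.card_subgroup_dvd_card U) hne h19 PU
    have hPUc : Nat.card (PU : Subgroup U) = 19 := by
      rw [PU.card_eq_multiplicity]
      have hle : (Nat.card U).factorization 19 ≤ 1 := by
        rw [← hfac]
        exact (Nat.factorization_le_iff_dvd Nat.card_pos.ne' (by norm_num)).2
          (hcard ▸ Subgroup.card_subgroup_dvd_card U) 19
      have hpos := Nat.Prime.factorization_pos_of_dvd (show Nat.Prime 19 by norm_num)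
        Nat.card_pos.ne' h19
      rw [show (Nat.card U).factorization 19 = 1 by omega, pow_one]
    have hz : (PU : Subgroup U) = Subgroup.zpowers x :=
      (Subgroup.eq_of_le_of_card_ge hPU (by rw [hPUc, Nat.card_zpowers, hx])).symm
    intro g hg
    refine Subgroup.mem_normalizer_fintype fun z hzP => ?_
    rw [SetLike.mem_coe, hP] at hzP ⊢
    obtain ⟨k, rfl⟩ := hzP
    obtain ⟨l, hl⟩ : (⟨g, hg⟩ : U) * x * (⟨g, hg⟩ : U)⁻¹ ∈ Subgroup.zpowers x := by
      rw [← hz]
      exact Subgroup.Normal.conj_mem inferInstance x (hz ▸ Subgroup.mem_zpowers x) _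
    have hl' : (x : Q) ^ l = g * x * g⁻¹ := by
      simpa using congrArg Subtype.val hl
    refine ⟨l * k, ?_⟩
    show (x : Q) ^ (l * k) = g * (x : Q) ^ k * g⁻¹
    rw [zpow_mul, hl', conj_zpow]
  set C := (Subgroup.centralizer ((P : Subgroup Q) : Set Q))
  have hxC : (x : Q) ∈ C := Subgroup.mem_centralizer_iff.2 fun z hz => by
    rw [SetLike.mem_coe, hP] at hz
    obtain ⟨k, rfl⟩ := hz
    exact ((Commute.refl (x : Q)).zpow_left k).eq
  have hCN : C ≤ N := fun c hc => Subgroup.mem_normalizer_fintype fun z hz => by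
    rw [← Subgroup.mem_centralizer_iff.1 hc z hz, mul_inv_cancel_right]
    exact hz
  have hCodd : Odd (Nat.card C) := by
    rw [← Nat.not_even_iff_odd, even_iff_two_dvd]
    intro h2
    obtain ⟨u, hu⟩ := exists_prime_orderOf_dvd_card' (G := C) 2 h2
    have hu' : orderOf (u : Q) = 2 := by rw [Subgroup.orderOf_coe, hu]
    have hxu : (x : Q) ∈ Subgroup.centralizer ({(u : Q)} : Set Q) :=
      Subgroup.mem_centralizer_singleton_iff.2
        (Subgroup.mem_centralizer_iff.1 u.2 _ (hP ▸ Subgroup.mem_zpowers (x : Q)))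
    have := orderOf_dvd_natCard (⟨(x : Q), hxu⟩ : Subgroup.centralizer ({(u : Q)} : Set Q))
    rw [Subgroup.orderOf_mk, hxQ, hinv _ hu'] at this
    norm_num at this
  -- the index of the centralizer in the normalizer
  let φ := (P : Subgroup Q).normalizerMonoidHom
  have hker : φ.ker = C.subgroupOf N := Subgroup.normalizerMonoidHom_ker _
  have hrel : (C.subgroupOf N).index ∣ 18 := by
    rw [← hker, Subgroup.index_ker]
    haveI : IsCyclic (P : Subgroup Q) := by rw [hP]; infer_instance
    refine (Subgroup.card_subgroup_dvd_card _).trans ?_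
    rw [IsCyclic.card_mulAut, hP, Nat.card_zpowers, hxQ, Nat.totient_prime (by norm_num)]
  have hNC : Nat.card N = Nat.card C * (C.subgroupOf N).index := by
    rw [← Subgroup.card_mul_index (C.subgroupOf N), Nat.card_congr (Subgroup.subgroupOfEquivOfLe hCN).toEquiv]
  have hC19 : 19 ∣ Nat.card C := by
    have := orderOf_dvd_natCard (⟨(x : Q), hxC⟩ : C)
    rwa [Subgroup.orderOf_mk, hxQ] at this
  obtain ⟨K, hK⟩ := hC19
  set e := (C.subgroupOf N).index
  have hNd : Nat.card N ∣ 175560 := hcard ▸ Subgroup.card_subgroup_dvd_card N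
  have hk : K * e ∣ 9240 := by
    rw [hNC, hK, mul_assoc, show (175560 : ℕ) = 19 * 9240 from rfl] at hNd
    exact Nat.dvd_of_mul_dvd_mul_left (by norm_num) hNd
  have h4 : ¬ 4 ∣ K * e := by
    intro h
    have hKo : Odd K := Odd.of_dvd_nat (hK ▸ hCodd) (dvd_mul_left _ _)
    have h4e : 4 ∣ e := (Nat.Coprime.dvd_of_dvd_mul_left
      (show Nat.Coprime 4 K from (Nat.Coprime.pow_left 2 (Nat.coprime_two_left.2 hKo))) h)
    exact absurd (h4e.trans hrel) (by norm_num)
  have hk2310 : K * e ∣ 2310 := by
    obtain ⟨d, hd, hd'⟩ : ∃ d, d ∈ Nat.divisors 9240 ∧ d = K * e :=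
      ⟨_, Nat.mem_divisors.2 ⟨hk, by norm_num⟩, rfl⟩
    have key : ∀ d ∈ Nat.divisors 9240, ¬ 4 ∣ d → d ∣ 2310 := by decide +kernel
    exact hd' ▸ key d hd (hd' ▸ h4)
  have hidx : N.index * (K * e) = 9240 := by
    have := N.card_mul_index
    rw [hcard, hNC, hK] at this
    have h19' : 19 * (N.index * (K * e)) = 19 * 9240 := by rw [← mul_comm N.index] at *; linarith
    omega
  have hmod : N.index % 19 = 1 := by
    have h := card_sylow_modEq_one 19 Q
    rw [P.card_eq_index_normalizer] at h
    exact h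
  have hk6 : (K * e) % 19 = 6 := by
    have : (N.index * (K * e)) % 19 = 6 := by rw [hidx]
    rwa [Nat.mul_mod, hmod, one_mul, Nat.mod_mod] at this
  have hUle : Nat.card U ∣ Nat.card N := Subgroup.card_dvd_of_le hUN
  rcases norm_options _ (Nat.mem_divisors.2 ⟨hk2310, by norm_num⟩) hk6 with h6 | h462
  · have := Nat.le_of_dvd Nat.card_pos hUle
    rw [hNC, hK, mul_assoc, h6] at this
    omega
  -- twenty Sylow subgroups
  have h20 : N.index = 20 := by rw [h462] at hidx; omega
  let π := MulAction.toPermHom Q (Sylow 19 Q)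
  have hn20 : Nat.card (Sylow 19 Q) = 20 := P.card_eq_index_normalizer.trans h20
  have hinj : Function.Injective π := by
    rw [← MonoidHom.ker_eq_bot_iff]
    rcases IsSimpleGroup.eq_bot_or_eq_top_of_normal π.ker inferInstance with h | h
    · exact h
    · exfalso
      have hfix : ∀ g : Q, g • P = P := fun g => by
        have h1 : π g = 1 := MonoidHom.mem_ker.1 (h ▸ Subgroup.mem_top g)
        exact DFunLike.congr_fun h1 P
      have htop : N = ⊤ := eq_top_iff.2 fun g _ => Sylow.smul_eq_iff_mem_normalizer.1 (hfix g)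
      rw [htop, Subgroup.index_top] at h20
      omega
  have hfixonly : ∀ R : Sylow 19 Q, (x : Q) • R = R → R = P := by
    intro R hR
    have hxR : (x : Q) ∈ Subgroup.normalizer ((R : Subgroup Q) : Set Q) :=
      Sylow.smul_eq_iff_mem_normalizer.1 hR
    have hp : IsPGroup 19 (Subgroup.zpowers (x : Q)) := hP ▸ P.2
    have hle : Subgroup.zpowers (x : Q) ≤ (R : Subgroup Q) := by
      have hsup : IsPGroup 19 (Subgroup.zpowers (x : Q) ⊔ R : Subgroup Q) :=
        hp.to_sup_of_normal_right' R.2 (Subgroup.zpowers_le.2 hxR)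
      exact le_sup_left.trans (R.3 hsup le_sup_right).le
    exact Sylow.ext (P.3 R.2 (hP ▸ hle))
  obtain ⟨R, hR⟩ : ∃ R : Sylow 19 Q, R ≠ P := by
    by_contra h
    push Not at h
    haveI : Subsingleton (Sylow 19 Q) := ⟨fun a b => (h a).trans (h b).symm⟩
    rw [Nat.card_eq_one_iff_unique.2 ⟨inferInstance, inferInstance⟩] at hn20
    omega
  -- the orbit of `R` under the element of order nineteen is everything else
  let o : Fin 19 → {R : Sylow 19 Q // R ≠ P} := fun i => ⟨(x : Q) ^ (i : ℕ) • R, fun h => hR (by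
    have hxP : ∀ n : ℕ, (x : Q) ^ n • P = P := fun n =>
      Sylow.smul_eq_iff_mem_normalizer.2 (pow_mem (hCN hxC) n)
    exact smul_left_cancel _ (h.trans (hxP i).symm))⟩
  have hoinj : Function.Injective o := by
    have key : ∀ n : ℕ, (x : Q) ^ n • R = R → 19 ∣ n := by
      intro n hn
      by_contra hnd
      obtain ⟨m, hm⟩ := exists_pow_eq_self_of_coprime (G := Q) (x := (x : Q))
        (show Nat.Coprime n (orderOf (x : Q)) by
          rw [hxQ]; exact ((Nat.Prime.coprime_iff_not_dvd (by norm_num)).2 hnd).symm)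
      refine hR (hfixonly R ?_)
      rw [← hm]
      have : ∀ m : ℕ, ((x : Q) ^ n) ^ m • R = R := fun m => by
        induction m with
        | zero => simp
        | succ m ih => rw [pow_succ, mul_smul, hn, ih]
      exact this m
    intro i j hij
    have h : (x : Q) ^ (i : ℕ) • R = (x : Q) ^ (j : ℕ) • R := congrArg Subtype.val hij
    have h19' : (x : Q) ^ 19 = 1 := hxQ ▸ pow_orderOf_eq_one _
    have h2 : (x : Q) ^ ((j : ℕ) + 19 - i) • R = R := by
      apply smul_left_cancel ((x : Q) ^ (i : ℕ))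
      rw [smul_smul, ← pow_add, Nat.add_sub_cancel' (by omega), pow_add, h19', mul_one, h]
    have h3 := key _ h2
    exact Fin.ext (by have := i.2; have := j.2; omega)
  have hbij : Function.Bijective o := (Nat.bijective_iff_injective_and_card o).2 ⟨hoinj, by
    haveI := Fintype.ofFinite (Sylow 19 Q)
    rw [Nat.card_eq_fintype_card, Fintype.card_fin, Nat.card_eq_fintype_card,
      Fintype.card_subtype_compl, Fintype.card_subtype_eq, ← Nat.card_eq_fintype_card, hn20]⟩
  have hC : Nat.card C ≤ 19 := by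
    have hinjC : Function.Injective (fun c : C => (⟨(c : Q) • R, fun h => hR (smul_left_cancel _
        (h.trans (Sylow.smul_eq_iff_mem_normalizer.2 (hCN c.2)).symm))⟩ :
          {R : Sylow 19 Q // R ≠ P})) := by
      intro c d hcd
      have h : (c : Q) • R = (d : Q) • R := congrArg Subtype.val hcd
      refine Subtype.ext (hinj (Equiv.ext fun R' => ?_))
      show (c : Q) • R' = (d : Q) • R'
      by_cases hR' : R' = P
      · rw [hR', Sylow.smul_eq_iff_mem_normalizer.2 (hCN c.2),
          Sylow.smul_eq_iff_mem_normalizer.2 (hCN d.2)]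
      obtain ⟨i, hi⟩ := hbij.2 ⟨R', hR'⟩
      have hi' : (x : Q) ^ (i : ℕ) • R = R' := congrArg Subtype.val hi
      have hcx : ∀ c : C, (c : Q) * (x : Q) ^ (i : ℕ) = (x : Q) ^ (i : ℕ) * c := fun c =>
        ((show Commute (c : Q) (x : Q) from
          (Subgroup.mem_centralizer_iff.1 c.2 _ (hP ▸ Subgroup.mem_zpowers (x : Q))).symm).pow_right i).eq
      rw [← hi', smul_smul, smul_smul, hcx, hcx, mul_smul, mul_smul, h]
    have := Nat.card_le_card_of_injective _ hinjC
    rwa [← Nat.card_eq_of_bijective o hbij, Nat.card_eq_fintype_card (α := Fin 19),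
      Fintype.card_fin] at this
  have hK1 : K ≤ 1 := by rw [hK] at hC; omega
  have he18 := Nat.le_of_dvd (by norm_num) hrel
  have := Nat.mul_le_mul hK1 he18
  omega

end CfsgLib.JanWeak
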