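import Cfsg.Agent.Lib.JanWeak.Component
import Cfsg.Agent.Lib.JanWeak.Nineteen

/-!
# The commuting graph on the class is connected
-/

set_option autoImplicit false
set_option linter.unusedSectionVars false
set_option linter.style.haveILetI false

namespace CfsgLib.JanWeak

open CfsgLib.JanOrder

universe u

theorem odd_of_fixed {α : Type*} [Finite α] (f : α → α) (hf : ∀ x, f (f x) = x)
    (h : Odd (Nat.card {x : α // f x = x})) : Odd (Nat.card α) := by
  haveI : Fact (Nat.Prime 2) := ⟨Nat.prime_two⟩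
  classical
  haveI := Fintype.ofFinite α
  let f' : Function.End α := f
  have hf' : f' ^ 2 ^ 1 = 1 := funext fun x => hf x
  have hm := Equiv.Perm.card_fixedPoints_modEq (f := f') (p := 2) (n := 1) hf'
  rw [Nat.card_eq_fintype_card] at h
  rw [Nat.card_eq_fintype_card, Nat.odd_iff] at *
  unfold Nat.ModEq at hm
  have : Fintype.card {x : α // f x = x} = Fintype.card (Function.fixedPoints f') :=
    Fintype.card_congr (Equiv.refl _)
  omega

variable {G : Type u} [Group G] [Finite G] {t : G}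

/-- Connectedness in the proper subgroups. -/
def SubConn (G : Type u) [Group G] [Finite G] : Prop :=
  ∀ (X : Subgroup G), X ≠ ⊤ → ∀ (a : X), Wk a → ∀ b, IsConj a b → b ∈ comp a

namespace Wk

variable (D : Wk t)

include D

theorem within (IH : SubConn G) {X : Subgroup G} (hX : X ≠ ⊤) {a b : G} (ha : a ∈ comp t)
    (hW : wc a ≤ X) (hb : b ∈ X) (hbc : IsConj t b) : b ∈ comp t := by
  classical
  by_contra hnb
  have Da := D.of (comp_conj ha)
  have haX : a ∈ X := hW Da.self_mem
  have hfus : ∀ u, IsConj a u → u * a = a * u → ∃ g ∈ X, g * u * g⁻¹ = b := by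
    intro u hu hua
    have hut : IsConj t u := (comp_conj ha).trans hu
    have huX : u ∈ X := hW (Subgroup.subset_closure ⟨hu, hua⟩)
    have huc : u ∈ comp t := comp_step ha hut hua.symm
    rcases D.dihedral hut hbc with ⟨j, hj⟩ | ⟨z, hz, hzu, hzb⟩
    · exact ⟨_, pow_mem (mul_mem huX hb) j, hj⟩
    · exact absurd (comp_step (comp_step huc hz hzu.symm) hbc hzb) hnb
  set a' : X := ⟨a, haX⟩ with ha'
  obtain ⟨ga, hgaX, hga⟩ := hfus a (IsConj.refl a) rfl
  have hconj : ∀ u, IsConj a u → u * a = a * u → ∀ hu : u ∈ X, IsConj a' ⟨u, hu⟩ := by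
    intro u hu hua huX
    obtain ⟨g, hgX, hg⟩ := hfus u hu hua
    refine isConj_iff.2 ⟨⟨g, hgX⟩⁻¹ * ⟨ga, hgaX⟩, Subtype.ext ?_⟩
    show g⁻¹ * ga * a * (g⁻¹ * ga)⁻¹ = u
    rw [show g⁻¹ * ga * a * (g⁻¹ * ga)⁻¹ = g⁻¹ * (ga * a * ga⁻¹) * g by group, hga, ← hg]
    group
  have hset : {x : G | IsConj a x ∧ x * a = a * x} =
      X.subtype '' {x : X | IsConj a' x ∧ x * a' = a' * x} := by
    ext x
    constructor
    · rintro ⟨h1, h2⟩
      have hxX : x ∈ X := hW (Subgroup.subset_closure ⟨h1, h2⟩)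
      exact ⟨⟨x, hxX⟩, ⟨hconj x h1 h2 hxX, Subtype.ext h2⟩, rfl⟩
    · rintro ⟨y, ⟨h1, h2⟩, rfl⟩
      exact ⟨X.subtype.map_isConj h1, congrArg Subtype.val h2⟩
  have hmap : (wc a').map X.subtype = wc a := by
    rw [wc, wc, MonoidHom.map_closure, hset]
  have h31 : Nat.card {x : G // IsConj a x ∧ x * a = a * x} = 31 := by
    rw [← card_invs, ← Fintype.card_subtype, ← Nat.card_eq_fintype_card]
    refine (Nat.card_congr (Equiv.ofBijective (fun m : {m : Mdl // m * m = 1 ∧ m ≠ 1} =>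
      (⟨Da.val m.1, Da.comm_iff.2 ⟨m.1, rfl, m.2⟩⟩ : {x : G // IsConj a x ∧ x * a = a * x}))
      ⟨fun p q h => Subtype.ext (Da.val_inj
        (congrArg (fun z : {x : G // IsConj a x ∧ x * a = a * x} => z.1) h)), ?_⟩)).symm
    rintro ⟨x, hx⟩
    obtain ⟨m, rfl, hm⟩ := Da.comm_iff.1 hx
    exact ⟨⟨m, hm⟩, rfl⟩
  let DX : Wk a' :=
    { ord := by rw [ha', Subgroup.orderOf_mk, Da.ord]
      odd := by
        have haa : a' * a' = 1 := Subtype.ext Da.tt
        refine odd_of_fixed (fun y : {x : X // IsConj a' x} =>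
          (⟨a' * y.1 * a'⁻¹, y.2.trans (isConj_iff.2 ⟨a', rfl⟩)⟩ : {x : X // IsConj a' x}))
          (fun y => Subtype.ext (by
            show a' * (a' * y.1 * a'⁻¹) * a'⁻¹ = y.1
            rw [inv_eq_of_mul_eq_one_right haa,
              show a' * (a' * y.1 * a') * a' = a' * a' * y.1 * (a' * a') by group, haa, one_mul,
              mul_one])) ?_
        rw [show Nat.card _ = 31 from ?_]
        · decide
        rw [← h31]
        refine Nat.card_congr (Equiv.ofBijective (fun y => ⟨(y.1.1 : G), X.subtype.map_isConj y.1.2,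
          (mul_inv_eq_iff_eq_mul.1 (congrArg (fun z => ((Subtype.val z : X) : G)) y.2)).symm⟩) ⟨?_, ?_⟩)
        · exact fun p q h => Subtype.ext (Subtype.ext (Subtype.ext
            (congrArg (fun z : {x : G // IsConj a x ∧ x * a = a * x} => z.1) h)))
        · rintro ⟨x, h1, h2⟩
          have hxX : x ∈ X := hW (Subgroup.subset_closure ⟨h1, h2⟩)
          refine ⟨⟨⟨⟨x, hxX⟩, hconj x h1 h2 hxX⟩, Subtype.ext (Subtype.ext ?_)⟩, rfl⟩
          show a * x * a⁻¹ = x
          rw [← h2, mul_inv_cancel_right]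
      e := (((wc a').equivMapOfInjective X.subtype X.subtype_injective).trans
        (MulEquiv.subgroupCongr hmap)).trans Da.e }
  have hb' : IsConj a' ⟨b, hb⟩ := isConj_iff.2 ⟨⟨ga, hgaX⟩, Subtype.ext hga⟩
  have hcomp := IH X hX a' DX _ hb'
  have key : ∀ c : X, Relation.ReflTransGen (Adj a') a' c → (c : G) ∈ comp t := by
    intro c hc
    induction hc with
    | refl => exact ha
    | @tail p q _ h ih =>
      exact comp_step ih ((comp_conj ha).trans (X.subtype.map_isConj h.2.1)) (congrArg Subtype.val h.2.2)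
  exact hnb (key _ hcomp)

theorem central_of_fix (IH : SubConn G) {x a b : G} (ha : a ∈ comp t)
    (hxW : ∀ w ∈ wc a, w * x = x * w) (hbc : IsConj t b) (hnb : b ∉ comp t) (hxb : x * b = b * x) :
    x ∈ Subgroup.center G := by
  by_contra hx
  refine hnb (D.within IH (X := Subgroup.centralizer {x}) (fun h => hx ?_) ha ?_ ?_ hbc)
  · exact Subgroup.mem_center_iff.2 fun g =>
      Subgroup.mem_centralizer_singleton_iff.1 (h ▸ Subgroup.mem_top g)
  · exact fun w hw => Subgroup.mem_centralizer_singleton_iff.2 (hxW w hw)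
  · exact Subgroup.mem_centralizer_singleton_iff.2 hxb.symm

/-- The main counting argument. -/
theorem conn (IH : SubConn G) : ∀ b, IsConj t b → b ∈ comp t := by
  classical
  haveI : Fact (Nat.Prime 2) := ⟨Nat.prime_two⟩
  by_contra hcon
  push Not at hcon
  obtain ⟨b0, hb0, hb0n⟩ := hcon
  obtain ⟨hsimple, hcardQ, hinvQ, hcomp1463, hcentQ⟩ := D.quotient_facts
  haveI := hsimple
  haveI := Fintype.ofFinite G
  let K : G → Finset G := fun a => Finset.univ.filter fun x => Relation.ReflTransGen (Adj t) a x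
  have hK : ∀ {a x}, x ∈ K a ↔ Relation.ReflTransGen (Adj t) a x := fun {a x} => by simp [K]
  have hKeq : ∀ {a x}, Relation.ReflTransGen (Adj t) a x → K a = K x := fun {a x} h => by
    ext y
    rw [hK, hK]
    exact ⟨fun h' => (reach_symm h).trans h', fun h' => h.trans h'⟩
  have hKcard : ∀ a, IsConj t a → (K a).card = 1463 := by
    intro a ha
    obtain ⟨g, rfl⟩ := isConj_iff.1 ha
    rw [← hcomp1463, ← Nat.card_eq_finsetCard]
    refine Nat.card_congr
      { toFun := fun x => ⟨g⁻¹ * x.1 * g, ?_⟩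
        invFun := fun x => ⟨g * x.1 * g⁻¹, hK.2 (reach_conj g x.2)⟩
        left_inv := fun x => Subtype.ext (by simp [mul_assoc])
        right_inv := fun x => Subtype.ext (by simp [mul_assoc]) }
    have h := reach_conj g⁻¹ (hK.1 x.2)
    rw [show g⁻¹ * (g * t * g⁻¹) * g⁻¹⁻¹ = t by group, inv_inv] at h
    exact h
  set out : Finset G := Finset.univ.filter fun c => IsConj t c ∧ c ∉ comp t with hout
  have hmem_out : ∀ {c}, c ∈ out ↔ IsConj t c ∧ c ∉ comp t := fun {c} => by simp [hout]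
  -- an element outside moves the component
  have hmove : ∀ c, IsConj t c → c ∉ comp t → c * t * c⁻¹ ∉ comp t := by
    intro c hc hcn hin
    have hcc : c * c = 1 := (D.sq_of_conj hc).1
    let f : comp t → comp t := fun a => ⟨c * a.1 * c⁻¹, conj_comp hin a.2⟩
    have hf : ∀ a, f (f a) = a := fun a => Subtype.ext (by
      show c * (c * a.1 * c⁻¹) * c⁻¹ = a.1
      rw [inv_eq_of_mul_eq_one_right hcc, show c * (c * a.1 * c) * c = c * c * a.1 * (c * c) by group,
        hcc, one_mul, mul_one])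
    have := odd_fixed f hf D.odd_comp
    obtain ⟨a, ha⟩ := (Nat.card_pos_iff.1 this.pos).1
    have h : c * a.1 * c⁻¹ = a.1 := congrArg Subtype.val ha
    exact hcn (comp_step a.2 hc (mul_inv_eq_iff_eq_mul.1 h).symm)
  set cs := out.image K with hcs
  have hfib : ∀ A ∈ cs, (out.filter fun c => K c = A).card = 1463 := by
    intro A hA
    obtain ⟨a, ha, rfl⟩ := Finset.mem_image.1 hA
    rw [← hKcard a (hmem_out.1 ha).1]
    congr 1
    ext x
    rw [Finset.mem_filter, hK, hmem_out]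
    refine ⟨fun h => hK.1 (h.2 ▸ hK.2 Relation.ReflTransGen.refl), fun h => ⟨⟨?_, fun hx => ?_⟩, (hKeq h).symm⟩⟩
    · rcases Relation.ReflTransGen.cases_tail h with h' | ⟨y, -, hy⟩
      · rw [h']; exact (hmem_out.1 ha).1
      · exact hy.2.1
    · exact (hmem_out.1 ha).2 (Relation.ReflTransGen.trans hx (reach_symm h))
  have hsum : cs.card * 1463 ≤ out.card := by
    rw [Finset.card_eq_sum_card_image K out, Finset.sum_congr rfl hfib, Finset.sum_const, smul_eq_mul]
  have hmaps : ∀ c ∈ out, K (c * t * c⁻¹) ∈ cs := fun c hc =>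
    Finset.mem_image.2 ⟨_, hmem_out.2 ⟨isConj_iff.2 ⟨c, rfl⟩, hmove c (hmem_out.1 hc).1 (hmem_out.1 hc).2⟩, rfl⟩
  obtain ⟨A, hA, hAge⟩ := Finset.exists_le_card_fiber_of_mul_le_card_of_maps_to hmaps
    ⟨_, Finset.mem_image.2 ⟨b0, hmem_out.2 ⟨hb0, hb0n⟩, rfl⟩⟩ hsum
  set Φ := out.filter fun c => K (c * t * c⁻¹) = A with hΦ
  obtain ⟨b, hbΦ⟩ : Φ.Nonempty := Finset.card_pos.1 (lt_of_lt_of_le (by norm_num) hAge)
  have hΦmem : ∀ {c}, c ∈ Φ ↔ (IsConj t c ∧ c ∉ comp t) ∧ K (c * t * c⁻¹) = A := fun {c} => by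
    rw [hΦ, Finset.mem_filter, hmem_out]
  obtain ⟨⟨hb, hbn⟩, hbA⟩ := hΦmem.1 hbΦ
  have hbb : b * b = 1 := (D.sq_of_conj hb).1
  have hbinv : b⁻¹ = b := inv_eq_of_mul_eq_one_right hbb
  set p := b * t * b⁻¹ with hp
  set D2 : Subgroup G := Mc t ⊓ (Mc t).comap (MulAut.conj b).toMonoidHom with hD2
  have hD2mem : ∀ {x}, x ∈ D2 ↔ x ∈ Mc t ∧ Relation.ReflTransGen (Adj t) p (x * p * x⁻¹) := by
    intro x
    rw [hD2, Subgroup.mem_inf, Subgroup.mem_comap, MulEquiv.coe_toMonoidHom, MulAut.conj_apply, mem_Mc]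
    refine and_congr Iff.rfl ⟨fun h => ?_, fun h => ?_⟩
    · have h' := reach_conj b h
      have e1 : b * (b * x * b⁻¹ * t * (b * x * b⁻¹)⁻¹) * b⁻¹ = x * p * x⁻¹ := by
        rw [hp, hbinv]
        calc b * (b * x * b * t * (b * x * b)⁻¹) * b = (b * b) * x * (b * t * b⁻¹) * x⁻¹ * (b⁻¹ * b) := by
              group
          _ = x * (b * t * b) * x⁻¹ := by rw [hbb, hbinv, hbb, one_mul, mul_one]
      rwa [e1] at h'
    · show Relation.ReflTransGen (Adj t) t _
      have h' := reach_conj b h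
      have e1 : b * (x * p * x⁻¹) * b⁻¹ = b * x * b⁻¹ * t * (b * x * b⁻¹)⁻¹ := by
        rw [hp, hbinv]
        calc b * (x * (b * t * b) * x⁻¹) * b = b * x * b * t * (b * x⁻¹ * b) := by group
          _ = b * x * b * t * (b * x * b)⁻¹ := by rw [mul_inv_rev, mul_inv_rev, hbinv, mul_assoc b x⁻¹]
      have e2 : b * p * b⁻¹ = t := by
        rw [hp, hbinv, show b * (b * t * b) * b = (b * b) * t * (b * b) by group, hbb, one_mul, mul_one]
      rwa [e1, e2] at h'
  let Q := Hc t ⧸ Subgroup.center (Hc t)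
  let U : Subgroup Q :=
    { carrier := {q | ∃ h : Hc t, (QuotientGroup.mk h : Q) = q ∧ ∃ r ∈ rt t, (h : G) * r ∈ D2}
      one_mem' := ⟨1, rfl, 1, one_mem _, by simp⟩
      mul_mem' := by
        rintro q q' ⟨h, rfl, r, hr, hx⟩ ⟨h', rfl, r', hr', hx'⟩
        refine ⟨h * h', rfl, r * r', mul_mem hr hr', ?_⟩
        have hc := D.comm_rt h'.2 hr
        have e : ((h * h' : Hc t) : G) * (r * r') = (h : G) * r * ((h' : G) * r') := by
          rw [Subgroup.coe_mul, mul_assoc (h : G), ← mul_assoc (h' : G), hc]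
          group
        rw [e]
        exact mul_mem hx hx'
      inv_mem' := by
        rintro q ⟨h, rfl, r, hr, hx⟩
        refine ⟨h⁻¹, rfl, r⁻¹, inv_mem hr, ?_⟩
        have e : ((h⁻¹ : Hc t) : G) * r⁻¹ = ((h : G) * r)⁻¹ := by
          rw [mul_inv_rev, InvMemClass.coe_inv]
          exact D.comm_rt (inv_mem h.2) (inv_mem hr)
        rw [e]
        exact inv_mem hx }
  have hUodd : Odd (Nat.card U) := by
    rw [← Nat.not_even_iff_odd, even_iff_two_dvd]
    intro h2
    obtain ⟨⟨q, h, hq, r, hr, hx⟩, hord⟩ := exists_prime_orderOf_dvd_card' (G := U) 2 h2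
    rw [← Subgroup.orderOf_coe] at hord
    simp only at hord
    have hq1 : q ≠ 1 := fun h' => by rw [h', orderOf_one] at hord; norm_num at hord
    obtain ⟨a, hac, ha⟩ := hinvQ q (by rw [← pow_two, ← hord, pow_orderOf_eq_one]) hq1
    rw [← hq, QuotientGroup.eq, D.mem_center_iff] at ha
    set s : G := (((a⁻¹ * h : Hc t)) : G) * r with hsdef
    have hs : s ∈ rt t := mul_mem ha hr
    have hxs : (h : G) * r = (a : G) * s := by
      rw [hsdef, Subgroup.coe_mul, InvMemClass.coe_inv]; group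
    rw [hxs] at hx
    obtain ⟨e, m, hm, hsm⟩ := Nat.exists_eq_two_pow_mul_odd (orderOf_pos s).ne'
    have hcom : Commute (a : G) s := D.comm_rt a.2 hs
    have haa : (a : G) * a = 1 := (D.sq_of_conj (comp_conj hac)).1
    obtain ⟨mm, rfl⟩ := hm
    set x' := (a : G) * s ^ (2 * mm + 1) with hx'def
    have hpow : ((a : G) * s) ^ (2 * mm + 1) = x' := by
      rw [hcom.mul_pow, hx'def, pow_succ (a : G), pow_mul, pow_two, haa, one_pow, one_mul]
    have hx'2 : x' ∈ D2 := hpow ▸ pow_mem hx _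
    have hx'pow : x' ^ 2 ^ (e + 1) = 1 := by
      rw [hx'def, (hcom.pow_right _).mul_pow, pow_succ, mul_comm (2 ^ e) 2, pow_mul (a : G), pow_two,
        haa, one_pow, one_mul, ← pow_mul, show (2 * mm + 1) * (2 * 2 ^ e) = (2 ^ e * (2 * mm + 1)) * 2 by ring,
        ← hsm, pow_mul, pow_orderOf_eq_one, one_pow]
    have hxp := (hD2mem.1 hx'2).2
    let f : Function.End {x // x ∈ K p} := fun z => ⟨x' * z.1 * x'⁻¹, hK.2 (hxp.trans (reach_conj x' (hK.1 z.2)))⟩
    have hfk : ∀ n : ℕ, ∀ z, ((f ^ n) z).1 = x' ^ n * z.1 * (x' ^ n)⁻¹ := by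
      intro n
      induction n with
      | zero => intro z; simp; rfl
      | succ n ih =>
        intro z
        rw [pow_succ' f]
        show x' * ((f ^ n) z).1 * x'⁻¹ = _
        rw [ih, pow_succ' x']
        group
    have hf : f ^ 2 ^ (e + 1) = 1 := funext fun z => Subtype.ext (by
      rw [hfk, hx'pow]; simp; rfl)
    have hm2 := Equiv.Perm.card_fixedPoints_modEq (f := f) (p := 2) (n := e + 1) hf
    rw [Fintype.card_coe, hKcard p (isConj_iff.2 ⟨b, rfl⟩)] at hm2
    obtain ⟨⟨⟨b', hb'K⟩, hb'f⟩⟩ : Nonempty (Function.fixedPoints f) := by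
      by_contra hne
      rw [not_nonempty_iff] at hne
      rw [Fintype.card_eq_zero] at hm2
      unfold Nat.ModEq at hm2
      omega
    have hb'comm : x' * b' = b' * x' := mul_inv_eq_iff_eq_mul.1 (congrArg Subtype.val hb'f)
    have hb'n : b' ∉ comp t := fun hin =>
      hmove b hb hbn (Relation.ReflTransGen.trans hin (reach_symm (hK.1 hb'K)))
    have hb'c : IsConj t b' := by
      rcases Relation.ReflTransGen.cases_tail (hK.1 hb'K) with h' | ⟨y, -, hy⟩
      · rw [h']; exact isConj_iff.2 ⟨b, rfl⟩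
      · exact hy.2.1
    have Da := D.of (comp_conj hac)
    have hsa : s ∈ rt (a : G) := by rw [D.rt_eq hac]; exact hs
    have hxW : ∀ w ∈ wc (a : G), w * x' = x' * w := fun w hw =>
      (Commute.mul_right (Da.comm_t hw)
        ((show Commute w s from Subgroup.mem_centralizer_iff.1 (Da.rt_le hsa) w hw).pow_right _)).eq
    have hcen := D.central_of_fix IH hac hxW hb'c hb'n hb'comm
    have hxrt : x' ∈ rt t := by
      rw [D.rt_eq_centralizer]
      exact Subgroup.mem_centralizer_iff.2 fun g _ => Subgroup.mem_center_iff.1 hcen g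
    have hart : (a : G) ∈ rt (a : G) := by
      rw [D.rt_eq hac, show (a : G) = x' * (s ^ (2 * mm + 1))⁻¹ by rw [hx'def, mul_inv_cancel_right]]
      exact mul_mem hxrt (inv_mem (pow_mem hs _))
    exact Da.ne_one (Da.wc_inf_rt Da.self_mem hart)
  have hinv120 : ∀ u : Q, orderOf u = 2 → Nat.card (Subgroup.centralizer ({u} : Set Q)) = 120 := by
    intro u hu
    obtain ⟨a, ha, rfl⟩ := hinvQ u (by rw [← pow_two, ← hu, pow_orderOf_eq_one])
      (fun h' => by rw [h', orderOf_one] at hu; norm_num at hu)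
    obtain ⟨e⟩ := hcentQ a ha
    rw [Nat.card_congr e.toEquiv, Nat.card_eq_fintype_card, card_mdl]
  have hlt := odd_subgroup_lt hcardQ hinv120 U hUodd
  -- the fibre injects into `U`
  have hdata : ∀ c : Φ, ∃ h : Hc t, ∃ r ∈ rt t, b * c.1 = (h : G) * r ∧ b * c.1 ∈ D2 := by
    rintro ⟨c, hc⟩
    obtain ⟨⟨hc1, hcn⟩, hcA⟩ := hΦmem.1 hc
    have hcc : c * c = 1 := (D.sq_of_conj hc1).1
    have hcinv : c⁻¹ = c := inv_eq_of_mul_eq_one_right hcc
    have hreach : Relation.ReflTransGen (Adj t) p (c * t * c⁻¹) := by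
      rw [← hK, hp]
      show _ ∈ K (b * t * b⁻¹)
      rw [hbA, ← hcA]
      exact hK.2 Relation.ReflTransGen.refl
    have hM : b * c ∈ Mc t := by
      have h := reach_conj b hreach
      rw [hp, hbinv, show b * (b * t * b) * b = (b * b) * t * (b * b) by group, hbb, one_mul, mul_one] at h
      rw [mem_Mc]
      show Relation.ReflTransGen (Adj t) t _
      rwa [show b * c * t * (b * c)⁻¹ = b * (c * t * c⁻¹) * b⁻¹ by group, hbinv]
    obtain ⟨h, hh, r, hr, he⟩ := D.Mc_cases hM
    refine ⟨⟨h, hh⟩, r, hr, he, hD2mem.2 ⟨hM, ?_⟩⟩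
    have h1 := reach_conj c (reach_symm hreach)
    rw [show c * (c * t * c⁻¹) * c⁻¹ = (c * c) * t * (c * c)⁻¹ by group, hcc, inv_one, one_mul, mul_one] at h1
    have h2 := reach_conj b h1
    rw [show b * (c * p * c⁻¹) * b⁻¹ = b * c * p * (b * c)⁻¹ by group] at h2
    exact h2
  choose hsel rsel hrsel hesel hD2sel using hdata
  let F : Φ → U := fun c => ⟨QuotientGroup.mk (hsel c), hsel c, rfl, rsel c, hrsel c, (hesel c) ▸ hD2sel c⟩
  have hFinj : Function.Injective F := by
    intro c c' hcc'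
    have hq : (QuotientGroup.mk (hsel c) : Q) = QuotientGroup.mk (hsel c') := congrArg Subtype.val hcc'
    rw [QuotientGroup.eq, D.mem_center_iff] at hq
    set s := (rsel c)⁻¹ * (((hsel c)⁻¹ * hsel c' : Hc t) : G) * rsel c' with hsdef
    have hs : s ∈ rt t := mul_mem (mul_mem (inv_mem (hrsel c)) hq) (hrsel c')
    have hcs' : c'.1 = c.1 * s := by
      have h1 : b * c'.1 = b * c.1 * s := by
        rw [hesel c', hesel c, hsdef, Subgroup.coe_mul, InvMemClass.coe_inv]
        group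
      rw [mul_assoc] at h1
      exact mul_left_cancel h1
    obtain ⟨⟨hc1, hcn⟩, -⟩ := hΦmem.1 c.2
    obtain ⟨⟨hc'1, -⟩, -⟩ := hΦmem.1 c'.2
    obtain ⟨hc2, -⟩ := D.sq_of_conj hc1
    obtain ⟨hc'2, -⟩ := D.sq_of_conj hc'1
    have hcinv : c.1⁻¹ = c.1 := inv_eq_of_mul_eq_one_right hc2
    rw [hcs'] at hc'2
    have hconjs : c.1 * s * c.1⁻¹ = s⁻¹ := by
      rw [hcinv, eq_inv_iff_mul_eq_one, ← hc'2]
      group
    set b' := c.1 * t * c.1⁻¹
    have hsb : s * b' = b' * s := by
      have h1 : t * s⁻¹ = s⁻¹ * t :=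
        Subgroup.mem_centralizer_iff.1 (D.rt_le (inv_mem hs)) t D.self_mem
      rw [← hconjs] at h1
      have h1' : c.1 * s * c.1 * t = t * (c.1 * s * c.1) := by rw [hcinv] at h1; exact h1.symm
      show s * (c.1 * t * c.1⁻¹) = c.1 * t * c.1⁻¹ * s
      rw [hcinv]
      calc s * (c.1 * t * c.1) = (c.1 * c.1) * s * (c.1 * t * c.1) := by rw [hc2, one_mul]
        _ = c.1 * (c.1 * s * c.1 * t) * c.1 := by group
        _ = c.1 * (t * (c.1 * s * c.1)) * c.1 := by rw [h1']
        _ = c.1 * t * c.1 * s * (c.1 * c.1) := by group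
        _ = c.1 * t * c.1 * s := by rw [hc2, mul_one]
    have hcen := D.central_of_fix IH (comp_self t)
      (fun w hw => Subgroup.mem_centralizer_iff.1 (D.rt_le hs) w hw)
      (isConj_iff.2 ⟨c.1, rfl⟩) (hmove c.1 hc1 hcn) hsb
    have Dc := D.of hc1
    have hsc : s ∈ rt c.1 := mem_rt.2 fun v _ _ =>
      Subgroup.mem_centralizer_iff.2 fun g _ => Subgroup.mem_center_iff.1 hcen g
    have hsw : s ∈ wc c.1 := by
      have hin : c.1 * s ∈ wc c.1 := mem_wc_of_comm D (hcs' ▸ hc'1) hc1 (by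
        rw [mul_assoc, ← Subgroup.mem_center_iff.1 hcen c.1])
      simpa using mul_mem (inv_mem Dc.self_mem) hin
    exact Subtype.ext (by rw [hcs', Dc.wc_inf_rt hsw hsc, mul_one])
  have := Nat.card_le_card_of_injective F hFinj
  rw [Nat.card_eq_finsetCard] at this
  exact absurd (hAge.trans this) (not_le.2 hlt)

end Wk

/-- The class is connected. -/
theorem connected : ∀ (n : ℕ) (G : Type u) [Group G] [Finite G], Nat.card G = n → ∀ (t : G), Wk t →
    ∀ b, IsConj t b → b ∈ comp t := by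
  intro n
  induction n using Nat.strong_induction_on with
  | _ n ih =>
    intro G _ _ hG t D
    refine D.conn fun X hX a Da => ih (Nat.card X) ?_ X rfl a Da
    rw [← hG]
    exact lt_of_le_of_ne (Subgroup.card_le_card_group X) fun h => hX (X.card_eq_iff_eq_top.1 h)

/-- The component generates the normal closure. -/
theorem normalClosure_eq {G : Type u} [Group G] [Finite G] {t : G} (D : Wk t) :
    Subgroup.normalClosure ({t} : Set G) = Hc t := by
  refine le_antisymm ?_ ((Subgroup.closure_le _).2 fun a ha => ?_)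
  · haveI : (Hc t).Normal := Subgroup.normalizer_eq_top_iff.1 (eq_top_iff.2 fun g _ => by
      refine Subgroup.mem_normalizer_iff.2 fun x => ?_
      have hmap : ∀ g : G, ∀ x ∈ Hc t, g * x * g⁻¹ ∈ Hc t := fun g x hx => by
        have hle : (Hc t).map (MulAut.conj g).toMonoidHom ≤ Hc t := by
          conv_lhs => rw [Hc, MonoidHom.map_closure]
          rw [Subgroup.closure_le]
          rintro _ ⟨y, hy, rfl⟩
          exact Subgroup.subset_closure
            (conj_comp (connected _ G rfl t D _ (isConj_iff.2 ⟨g, rfl⟩)) hy)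
        exact hle ⟨x, hx, rfl⟩
      exact ⟨hmap g x, fun h => by simpa [mul_assoc] using hmap g⁻¹ _ h⟩)
    exact Subgroup.normalClosure_le_normal (Set.singleton_subset_iff.2
      (Subgroup.subset_closure (comp_self t)))
  · obtain ⟨g, rfl⟩ := isConj_iff.1 (comp_conj ha)
    exact Subgroup.Normal.conj_mem (inferInstance : (Subgroup.normalClosure ({t} : Set G)).Normal) t
      (Subgroup.subset_normalClosure (Set.mem_singleton t)) g

end CfsgLib.JanWeak
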