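import Cfsg.Agent.Lib.JanWeak.Basic

/-!
# The elementary subgroup of order eight and its normalizer
-/

set_option autoImplicit false
set_option linter.unusedSectionVars false
set_option linter.style.haveILetI false

namespace CfsgLib.JanWeak

open CfsgLib.JanOrder

/-- The elementary subgroup of order eight of the model. -/
def eSub : Subgroup Mdl where
  carrier := {m | InE m}
  one_mem' := by
    show InE 1
    decide +kernel
  mul_mem' := fun {a b} ha hb => (inE_mul a ha b hb).1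
  inv_mem' := fun {a} ha => inE_inv a ha

theorem mem_eSub {m : Mdl} : m ∈ eSub ↔ InE m := Iff.rfl

theorem card_eSub : Nat.card eSub = 8 := by
  classical
  rw [← card_inE, ← Fintype.card_subtype, ← Nat.card_eq_fintype_card]
  exact Nat.card_congr (Equiv.subtypeEquivRight fun _ => mem_eSub)

variable {G : Type*} [Group G] [Finite G] {t : G}

/-- Inside a group of order 120 the subgroups of order eight are conjugate. -/
theorem Wk.conj_eight {u : G} (D : Wk u) {P Q : Subgroup G} (hP : P ≤ wc u) (hQ : Q ≤ wc u)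
    (hP8 : Nat.card P = 8) (hQ8 : Nat.card Q = 8) :
    ∃ w ∈ wc u, ∀ z, z ∈ P ↔ w * z * w⁻¹ ∈ Q := by
  haveI : Fact (Nat.Prime 2) := ⟨Nat.prime_two⟩
  have h120 : Nat.card (wc u) = 120 := by
    rw [Nat.card_congr D.e.toEquiv, Nat.card_eq_fintype_card, card_mdl]
  have hmul : (Nat.card (wc u)).factorization 2 = 3 := by
    rw [h120, show (120 : ℕ) = 2 ^ 3 * 15 from rfl, Nat.factorization_mul (by norm_num) (by norm_num),
      Nat.Prime.factorization_pow Nat.prime_two]
    simp [Nat.factorization_eq_zero_of_not_dvd (show ¬ 2 ∣ 15 by norm_num)]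
  let P' : Sylow 2 (wc u) := Sylow.ofCard (P.subgroupOf (wc u)) (by
    rw [Nat.card_congr (Subgroup.subgroupOfEquivOfLe hP).toEquiv, hP8, hmul]; norm_num)
  let Q' : Sylow 2 (wc u) := Sylow.ofCard (Q.subgroupOf (wc u)) (by
    rw [Nat.card_congr (Subgroup.subgroupOfEquivOfLe hQ).toEquiv, hQ8, hmul]; norm_num)
  obtain ⟨w, hw⟩ := MulAction.exists_smul_eq (wc u) P' Q'
  have hw' : (Q.subgroupOf (wc u)) = (P.subgroupOf (wc u)).map (MulAut.conj w).toMonoidHom := by
    have := congrArg (fun S : Sylow 2 (wc u) => (S : Subgroup (wc u))) hw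
    simp only [Sylow.smul_def] at this
    exact this.symm
  refine ⟨w, w.2, fun z => ⟨fun hz => ?_, fun hz => ?_⟩⟩
  · have : (MulAut.conj w) ⟨z, hP hz⟩ ∈ Q.subgroupOf (wc u) :=
      hw' ▸ Subgroup.mem_map_of_mem _ (show (⟨z, hP hz⟩ : wc u) ∈ P.subgroupOf (wc u) from hz)
    exact this
  · have hzW : z ∈ wc u := by
      have h1 := mul_mem (mul_mem (inv_mem w.2) (hQ hz)) w.2
      simpa [mul_assoc] using h1
    have h1 : (MulAut.conj w) ⟨z, hzW⟩ ∈ Q.subgroupOf (wc u) := hz
    rw [hw'] at h1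
    obtain ⟨y, hy, hyz⟩ := h1
    rw [(MulAut.conj w).injective hyz] at hy
    exact hy

namespace Wk

variable (D : Wk t)

/-- The elementary subgroup of order eight. -/
def eG : Subgroup G := eSub.map D.val

include D

theorem mem_eG {z : G} : z ∈ D.eG ↔ ∃ m, InE m ∧ D.val m = z := Iff.rfl

theorem eG_card : Nat.card D.eG = 8 := by
  rw [eG, Nat.card_congr (eSub.equivMapOfInjective D.val D.val_inj).toEquiv.symm, card_eSub]

theorem eG_le : D.eG ≤ wc t := fun z hz => by
  obtain ⟨m, -, rfl⟩ := hz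
  exact D.val_mem m

theorem t_mem_eG : t ∈ D.eG := ⟨τM, inE_gens.1, D.val_tau⟩

theorem eG_comm {a b : G} (ha : a ∈ D.eG) (hb : b ∈ D.eG) : a * b = b * a := by
  obtain ⟨m, hm, rfl⟩ := ha
  obtain ⟨n, hn, rfl⟩ := hb
  rw [← map_mul, ← map_mul, (inE_mul m hm n hn).2]

theorem eG_sq {a : G} (ha : a ∈ D.eG) : a * a = 1 := by
  obtain ⟨m, hm, rfl⟩ := ha
  rw [← map_mul, hm.2, map_one]

theorem eG_conj {u : G} (hu : u ∈ D.eG) (h1 : u ≠ 1) : IsConj t u :=
  (D.conj_of_sq (D.eG_le hu) (D.eG_sq hu) h1).1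

theorem eG_le_wc {u : G} (hu : u ∈ D.eG) (h1 : u ≠ 1) : D.eG ≤ wc u := fun z hz => by
  by_cases hz1 : z = 1
  · rw [hz1]; exact one_mem _
  · exact mem_wc_of_comm D (D.eG_conj hz hz1) (D.eG_conj hu h1) (D.eG_comm hz hu)

/-- Every nontrivial element is the image of the involution under the normalizer. -/
theorem exists_norm {u : G} (hu : u ∈ D.eG) (h1 : u ≠ 1) :
    ∃ n ∈ Subgroup.normalizer (D.eG : Set G), n * t * n⁻¹ = u := by
  obtain ⟨g, hg⟩ := isConj_iff.1 (D.eG_conj hu h1)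
  have hQ : D.eG.map (MulAut.conj g).toMonoidHom ≤ wc u := by
    rw [← hg, wc_conj]
    exact Subgroup.map_mono D.eG_le
  obtain ⟨w, hw, hwz⟩ := (D.of (D.eG_conj hu h1)).conj_eight hQ (D.eG_le_wc hu h1) (by
    rw [Nat.card_congr (D.eG.equivMapOfInjective _ (MulEquiv.injective _)).toEquiv.symm]
    exact D.eG_card) D.eG_card
  refine ⟨w * g, Subgroup.mem_normalizer_iff.2 fun z => ?_, ?_⟩
  · have h := hwz (g * z * g⁻¹)
    rw [show w * (g * z * g⁻¹) * w⁻¹ = w * g * z * (w * g)⁻¹ by group] at h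
    rw [← h, Subgroup.mem_map_equiv]
    simp [mul_assoc]
  · rw [show w * g * t * (w * g)⁻¹ = w * (g * t * g⁻¹) * w⁻¹ by group, hg,
      (D.of (D.eG_conj hu h1)).comm_t hw, mul_inv_cancel_right]

/-- The element of order three normalizing the elementary subgroup. -/
def x3 : G := D.val xM

theorem x3_norm : D.x3 ∈ Subgroup.normalizer (D.eG : Set G) :=
  Subgroup.mem_normalizer_fintype fun z hz => by
    obtain ⟨m, hm, rfl⟩ := hz
    exact ⟨_, (xM_norm m hm).1, by rw [x3, map_mul, map_mul, map_inv]⟩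

theorem x3_fix {e : G} (he : e ∈ D.eG) (h : D.x3 * e * D.x3⁻¹ = e) : e = 1 ∨ e = t := by
  obtain ⟨m, hm, rfl⟩ := he
  rcases (xM_norm m hm).2 (D.val_inj (by rw [map_mul, map_mul, map_inv]; exact h)) with rfl | rfl
  · exact Or.inl (map_one _)
  · exact Or.inr D.val_tau

/-- An automorphism fixing the elementary subgroup pointwise is conjugation by one of its elements. -/
theorem exists_cent_wc {y : G} (hy : y ∈ Subgroup.centralizer (D.eG : Set G)) :
    ∃ e ∈ D.eG, e * y ∈ Subgroup.centralizer (wc t : Set G) := by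
  have hyE : ∀ m, InE m → y * D.val m * y⁻¹ = D.val m := fun m hm => by
    rw [← Subgroup.mem_centralizer_iff.1 hy _ ⟨m, hm, rfl⟩, mul_inv_cancel_right]
  have hyt : y * t * y⁻¹ = t := by rw [← D.val_tau]; exact hyE _ inE_gens.1
  have himg : ∀ m, ∃ m', D.val m' = y * D.val m * y⁻¹ := fun m => D.val_surj (by
    have h : y * D.val m * y⁻¹ ∈ (wc t).map (MulAut.conj y).toMonoidHom :=
      ⟨_, D.val_mem m, rfl⟩
    rwa [← wc_conj, hyt] at h)
  choose α hα using himg
  have hαm : ∀ m n, α (m * n) = α m * α n := fun m n => D.val_inj (by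
    rw [hα, map_mul, map_mul, hα, hα]; group)
  have hαE : ∀ m, InE m → α m = m := fun m hm => D.val_inj (by rw [hα, hyE m hm])
  let f : Mdl →* Mdl := MonoidHom.mk' α hαm
  have hx : α xM ^ 3 = 1 := by
    show f xM ^ 3 = 1
    rw [← map_pow, xM_pow.1, map_one]
  have hxv : ∀ m, InE m → α xM * m * (α xM)⁻¹ = xM * m * xM⁻¹ := fun m hm => by
    show f xM * m * (f xM)⁻¹ = _
    rw [show m = f m from (hαE m hm).symm, ← map_inv, ← map_mul, ← map_mul,
      show f m = m from hαE m hm]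
    exact hαE _ (xM_norm m hm).1
  obtain ⟨a, ha, hax⟩ := x_images (α xM) hx (hxv _ inE_gens.2.1) (hxv _ inE_gens.2.2)
  have haa : a⁻¹ = a := inv_eq_of_mul_eq_one_right ha.2
  let f' : Mdl →* Mdl := (MulAut.conj a).toMonoidHom.comp f
  have hf'E : ∀ m, InE m → f' m = m := fun m hm => by
    show a * α m * a⁻¹ = m
    rw [hαE m hm, (inE_mul a ha m hm).2, mul_inv_cancel_right]
  have hf'x : f' xM = xM := by
    show a * α xM * a⁻¹ = xM
    rw [← hax, show a * (a * xM * a⁻¹) * a⁻¹ = (a * a) * xM * (a * a)⁻¹ by group, ha.2, inv_one,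
      one_mul, mul_one]
  have hinj : Function.Injective f' := fun p q h => by
    have h' : α p = α q := (MulAut.conj a).injective h
    have := hα p ▸ h' ▸ hα q
    exact D.val_inj (mul_left_cancel (mul_right_cancel this))
  have hfx' : ∀ c ∈ testElts, f' c = c := by
    intro c hc
    simp only [testElts, List.mem_cons, List.not_mem_nil, or_false] at hc
    rcases hc with rfl | rfl | rfl | rfl | rfl | rfl <;>
      simp [map_mul, hf'x, hf'E _ inE_gens.2.1, hf'E _ inE_gens.2.2]
  have hs : f' sM = sM := by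
    refine s_images _ (by rw [← map_mul, xM_pow.2.2.1, map_one]) ?_ ?_ fun c hc => ?_
    · exact fun h => xM_pow.2.2.2.1 (hinj (h.trans (map_one f').symm))
    · exact fun h => xM_pow.2.2.2.2.1 (hinj (h.trans (hf'E _ inE_gens.1).symm))
    · have key : ∀ k : ℕ, (sM * c) ^ k = 1 ↔ (f' sM * c) ^ k = 1 := fun k => by
        conv_rhs => rw [← hfx' c hc, ← map_mul, ← map_pow]
        exact ⟨fun h => by rw [h, map_one], fun h => hinj (h.trans (map_one f').symm)⟩
      exact ⟨key 2, key 3, key 5⟩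
  have hid : ∀ m, f' m = m := fun m => by
    obtain ⟨p, hp, i, rfl | ⟨q, hq, j, rfl⟩⟩ := mdl_gens m
    · rw [map_mul, map_pow, hf'E p hp, hf'x]
    · simp only [map_mul, map_pow, hf'E p hp, hf'E q hq, hf'x, hs]
  refine ⟨D.val a, ⟨a, ha, rfl⟩, Subgroup.mem_centralizer_iff.2 fun w hw => ?_⟩
  obtain ⟨m, rfl⟩ := D.val_surj hw
  have h : D.val a * (y * D.val m * y⁻¹) * (D.val a)⁻¹ = D.val m := by
    rw [← hα, ← map_inv, ← map_mul, ← map_mul]
    exact congrArg D.val (hid m)
  calc D.val m * (D.val a * y) = D.val a * (y * D.val m * y⁻¹) * (D.val a)⁻¹ * (D.val a * y) := by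
        rw [h]
    _ = D.val a * y * D.val m := by group

end Wk

end CfsgLib.JanWeak
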