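import Cfsg.Agent.Lib.JanWeak.Action

/-!
# The centralizer of the involution is `W × R`
-/

set_option autoImplicit false
set_option linter.unusedSectionVars false
set_option linter.style.haveILetI false

namespace CfsgLib.JanWeak

open CfsgLib.JanOrder

variable {G : Type*} [Group G]

/-- The common centralizer of the weak closures at an involution and its neighbours. -/
def rt (t : G) : Subgroup G :=
  ⨅ (v : G) (_ : IsConj t v) (_ : v * t = t * v), Subgroup.centralizer (wc v : Set G)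

theorem mem_rt {t r : G} : r ∈ rt t ↔
    ∀ v, IsConj t v → v * t = t * v → r ∈ Subgroup.centralizer (wc v : Set G) := by
  simp only [rt, Subgroup.mem_iInf]

/-- The subgroup generated by the weak closures at an involution and its neighbours. -/
def nb (t : G) : Subgroup G :=
  ⨆ (v : G) (_ : IsConj t v) (_ : v * t = t * v), wc v

theorem wc_le_nb {t v : G} (h : IsConj t v) (hc : v * t = t * v) : wc v ≤ nb t :=
  le_iSup_of_le v (le_iSup_of_le h (le_iSup_of_le hc le_rfl))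

theorem conj_mem_centralizer {g w z : G} (h : z ∈ Subgroup.centralizer (wc w : Set G)) :
    g * z * g⁻¹ ∈ Subgroup.centralizer (wc (g * w * g⁻¹) : Set G) := by
  rw [Subgroup.mem_centralizer_iff]
  intro y hy
  rw [SetLike.mem_coe, wc_conj] at hy
  obtain ⟨x, hx, rfl⟩ := hy
  simp only [MulEquiv.coe_toMonoidHom, MulAut.conj_apply]
  calc g * x * g⁻¹ * (g * z * g⁻¹) = g * (x * z) * g⁻¹ := by group
    _ = g * (z * x) * g⁻¹ := by rw [Subgroup.mem_centralizer_iff.1 h x hx]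
    _ = g * z * g⁻¹ * (g * x * g⁻¹) := by group

variable [Finite G] {t : G}

namespace Wk

variable (D : Wk t)

include D

theorem mem_C_eG {y : G} (hy : y ∈ Subgroup.centralizer (wc t : Set G)) :
    y ∈ Subgroup.centralizer (D.eG : Set G) :=
  Subgroup.centralizer_le (SetLike.coe_subset_coe.2 D.eG_le) hy

theorem act_eq_one {n : G} (hn : n ∈ Subgroup.normalizer (D.eG : Set G))
    (h : D.act ⟨n, hn⟩ = 1) : n ∈ Subgroup.centralizer (D.eG : Set G) :=
  Subgroup.mem_centralizer_iff.2 fun z hz => by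
    have h1 : D.act ⟨n, hn⟩ ⟨z, hz⟩ = ⟨z, hz⟩ := by rw [h]; rfl
    have h2 : n * z * n⁻¹ = z := congrArg Subtype.val h1
    exact (mul_inv_eq_iff_eq_mul.1 h2).symm

theorem conj_first (j : Fin 3) : ∃ w ∈ ([1, D.x3⁻¹, D.x3] : List G),
    w * D.val (firstI j) * w⁻¹ = D.val (firstI 0) := by
  fin_cases j
  · exact ⟨1, by simp, by simp⟩
  · refine ⟨D.x3⁻¹, by simp, ?_⟩
    show D.x3⁻¹ * D.val (xM * vM * xM⁻¹) * D.x3⁻¹⁻¹ = D.val vM
    rw [x3, map_mul, map_mul, map_inv]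
    group
  · refine ⟨D.x3, by simp, ?_⟩
    show D.x3 * D.val (xM⁻¹ * vM * xM) * D.x3⁻¹ = D.val vM
    rw [x3, map_mul, map_mul, map_inv]
    group

/-- The stabilizer in the normalizer acts like a power of the element of order three. -/
theorem stab_cases {n : G} (hn : n ∈ Subgroup.normalizer (D.eG : Set G)) (ht : n * t * n⁻¹ = t) :
    ∃ w ∈ ([1, D.x3⁻¹, D.x3] : List G), w * n ∈ Subgroup.centralizer (D.eG : Set G) := by
  obtain ⟨j, hj⟩ := D.first_image hn ht 0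
  obtain ⟨w, hw, hwj⟩ := D.conj_first j
  refine ⟨w, hw, ?_⟩
  have hxt : D.x3 * t = t * D.x3 := D.comm_t (D.val_mem _)
  have hwN : w ∈ Subgroup.normalizer (D.eG : Set G) ∧ w * t * w⁻¹ = t := by
    simp only [List.mem_cons, List.not_mem_nil, or_false] at hw
    rcases hw with rfl | rfl | rfl
    · exact ⟨one_mem _, by simp⟩
    · exact ⟨inv_mem D.x3_norm, by rw [inv_inv, mul_assoc, ← hxt, inv_mul_cancel_left]⟩
    · exact ⟨D.x3_norm, by rw [hxt, mul_inv_cancel_right]⟩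
  obtain ⟨γ, -, -, -, -, htriv⟩ := D.exists_seven
  have h1 := htriv ⟨D.act ⟨w * n, mul_mem hwN.1 hn⟩, _, rfl⟩ (Subtype.ext (by
    show w * n * t * (w * n)⁻¹ = t
    rw [show w * n * t * (w * n)⁻¹ = w * (n * t * n⁻¹) * w⁻¹ by group, ht, hwN.2]))
    (Subtype.ext (by
      show w * n * D.val (firstI 0) * (w * n)⁻¹ = D.val (firstI 0)
      rw [show w * n * D.val (firstI 0) * (w * n)⁻¹ =
        w * (n * D.val (firstI 0) * n⁻¹) * w⁻¹ by group, hj, hwj]))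
  exact D.act_eq_one _ (congrArg Subtype.val h1)

/-- Elements centralizing the elementary subgroup, relative to another involution in it. -/
theorem exists_cent {u y : G} (hu : u ∈ D.eG) (h1 : u ≠ 1)
    (hy : y ∈ Subgroup.centralizer (D.eG : Set G)) :
    ∃ e ∈ D.eG, e * y ∈ Subgroup.centralizer (wc u : Set G) := by
  obtain ⟨n, hn, rfl⟩ := D.exists_norm hu h1
  have hy' : n⁻¹ * y * n ∈ Subgroup.centralizer (D.eG : Set G) :=
    Subgroup.mem_centralizer_iff.2 fun z hz => by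
      have h := Subgroup.mem_centralizer_iff.1 hy _ ((Subgroup.mem_normalizer_iff.1 hn z).1 hz)
      calc z * (n⁻¹ * y * n) = n⁻¹ * (n * z * n⁻¹ * y) * n := by group
        _ = n⁻¹ * (y * (n * z * n⁻¹)) * n := by rw [h]
        _ = n⁻¹ * y * n * z := by group
  obtain ⟨e, he, hey⟩ := D.exists_cent_wc hy'
  refine ⟨n * e * n⁻¹, (Subgroup.mem_normalizer_iff.1 hn e).1 he, ?_⟩
  have := conj_mem_centralizer (g := n) hey
  rwa [show n * (e * (n⁻¹ * y * n)) * n⁻¹ = n * e * n⁻¹ * y by group] at this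

/-- Every element centralizing the involution is in the weak closure times its centralizer. -/
theorem cent_cases {y : G} (hy : y * t = t * y) :
    ∃ w ∈ wc t, w * y ∈ Subgroup.centralizer (wc t : Set G) := by
  have hyt : y * t * y⁻¹ = t := by rw [hy, mul_inv_cancel_right]
  have hQ : D.eG.map (MulAut.conj y).toMonoidHom ≤ wc t := by
    conv_rhs => rw [← hyt, wc_conj]
    exact Subgroup.map_mono D.eG_le
  obtain ⟨w, hw, hwz⟩ := D.conj_eight hQ D.eG_le (by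
    rw [Nat.card_congr (D.eG.equivMapOfInjective _ (MulEquiv.injective _)).toEquiv.symm]
    exact D.eG_card) D.eG_card
  have hn : w * y ∈ Subgroup.normalizer (D.eG : Set G) := Subgroup.mem_normalizer_iff.2 fun z => by
    have h := hwz (y * z * y⁻¹)
    rw [show w * (y * z * y⁻¹) * w⁻¹ = w * y * z * (w * y)⁻¹ by group] at h
    rw [← h, Subgroup.mem_map_equiv]
    simp [mul_assoc]
  have ht : w * y * t * (w * y)⁻¹ = t := by
    rw [show w * y * t * (w * y)⁻¹ = w * (y * t * y⁻¹) * w⁻¹ by group, hyt, D.comm_t hw,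
      mul_inv_cancel_right]
  obtain ⟨w2, hw2, hA⟩ := D.stab_cases hn ht
  obtain ⟨e, he, hey⟩ := D.exists_cent_wc hA
  have hw2W : w2 ∈ wc t := by
    simp only [List.mem_cons, List.not_mem_nil, or_false] at hw2
    rcases hw2 with rfl | rfl | rfl
    · exact one_mem _
    · exact inv_mem (D.val_mem _)
    · exact D.val_mem _
  refine ⟨e * w2 * w, mul_mem (mul_mem (D.eG_le he) hw2W) hw, ?_⟩
  rwa [show e * w2 * w * y = e * (w2 * (w * y)) by group]

/-- It suffices to test the involutions of the elementary subgroup. -/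
theorem mem_rt_of {r : G}
    (h : ∀ u ∈ D.eG, u ≠ 1 → r ∈ Subgroup.centralizer (wc u : Set G)) : r ∈ rt t := by
  rw [mem_rt]
  intro v hv hvt
  obtain ⟨m, rfl, hm2, hm1⟩ := D.comm_iff.1 ⟨hv, hvt⟩
  obtain ⟨n, hn⟩ := conj_into_E m hm2
  have hu : D.val n * D.val m * (D.val n)⁻¹ ∈ D.eG := ⟨_, hn, by rw [map_mul, map_mul, map_inv]⟩
  have hu1 : D.val n * D.val m * (D.val n)⁻¹ ≠ 1 := fun h' =>
    hm1 (D.val_inj ((mul_eq_left.1 (mul_inv_eq_one.1 h')).trans (map_one D.val).symm))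
  have hr := conj_mem_centralizer (g := (D.val n)⁻¹) (h _ hu hu1)
  have hrn : D.val n * r = r * D.val n :=
    Subgroup.mem_centralizer_iff.1 (h t D.t_mem_eG D.ne_one) _ (D.val_mem n)
  have e1 : (D.val n)⁻¹ * (D.val n * D.val m * (D.val n)⁻¹) * (D.val n)⁻¹⁻¹ = D.val m := by group
  have e2 : (D.val n)⁻¹ * r * (D.val n)⁻¹⁻¹ = r := by
    rw [inv_inv, mul_assoc, ← hrn, inv_mul_cancel_left]
  rwa [e1, e2] at hr

/-- Commutators of elements centralizing the elementary subgroup. -/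
theorem comm_mem_rt {a b : G} (ha : a ∈ Subgroup.centralizer (D.eG : Set G))
    (hb : b ∈ Subgroup.centralizer (D.eG : Set G)) : a * b * a⁻¹ * b⁻¹ ∈ rt t := by
  refine D.mem_rt_of fun u hu h1 => Subgroup.mem_centralizer_iff.2 fun w hw => ?_
  obtain ⟨e, he, hea⟩ := D.exists_cent hu h1 ha
  obtain ⟨f, hf, hfb⟩ := D.exists_cent hu h1 hb
  have hW : D.eG ≤ wc u := D.eG_le_wc hu h1
  have key : ∀ {c a : G}, c ∈ D.eG → c * a ∈ Subgroup.centralizer (wc u : Set G) →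
      ∀ x ∈ wc u, a * x * a⁻¹ = c⁻¹ * x * c ∧ a⁻¹ * x * a = c * x * c⁻¹ := by
    intro c a hc hca x hx
    constructor
    · calc a * x * a⁻¹ = c⁻¹ * ((c * a) * x * (c * a)⁻¹) * c := by group
        _ = c⁻¹ * x * c := by rw [← Subgroup.mem_centralizer_iff.1 hca x hx, mul_inv_cancel_right]
    · have hx' := mul_mem (mul_mem (hW hc) hx) (inv_mem (hW hc))
      calc a⁻¹ * x * a = (c * a)⁻¹ * ((c * x * c⁻¹) * (c * a)) := by group
        _ = c * x * c⁻¹ := by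
          rw [Subgroup.mem_centralizer_iff.1 hca _ hx', inv_mul_cancel_left]
  have h1' : b⁻¹ * w * b = f * w * f⁻¹ := (key hf hfb w hw).2
  have hw1 := mul_mem (mul_mem (hW hf) hw) (inv_mem (hW hf))
  have h2' : a⁻¹ * (f * w * f⁻¹) * a = e * (f * w * f⁻¹) * e⁻¹ := (key he hea _ hw1).2
  have hw2 := mul_mem (mul_mem (hW he) hw1) (inv_mem (hW he))
  have h3' := (key hf hfb _ hw2).1
  have hw3 := mul_mem (mul_mem (inv_mem (hW hf)) hw2) (hW hf)
  have h4' := (key he hea _ hw3).1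
  have hef : e * f = f * e := D.eG_comm he hf
  have hfix : (a * b * a⁻¹ * b⁻¹) * w * (a * b * a⁻¹ * b⁻¹)⁻¹ = w := by
    calc (a * b * a⁻¹ * b⁻¹) * w * (a * b * a⁻¹ * b⁻¹)⁻¹
        = a * (b * (a⁻¹ * (b⁻¹ * w * b) * a) * b⁻¹) * a⁻¹ := by group
      _ = a * (b * (e * (f * w * f⁻¹) * e⁻¹) * b⁻¹) * a⁻¹ := by rw [h1', h2']
      _ = e⁻¹ * (f⁻¹ * (e * (f * w * f⁻¹) * e⁻¹) * f) * e := by rw [h3', h4']
      _ = (e⁻¹ * f⁻¹ * (e * f)) * w * (e⁻¹ * f⁻¹ * (e * f))⁻¹ := by group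
      _ = w := by rw [hef]; group
  exact (mul_inv_eq_iff_eq_mul.1 hfix).symm

theorem rt_conj {n r : G} (hn : n ∈ Subgroup.normalizer (D.eG : Set G)) (hr : r ∈ rt t) :
    n * r * n⁻¹ ∈ rt t := by
  refine D.mem_rt_of fun u hu h1 => ?_
  have hu' : n⁻¹ * u * n ∈ D.eG :=
    (Subgroup.mem_normalizer_iff.1 hn _).2 (by simpa [mul_assoc] using hu)
  have h1' : n⁻¹ * u * n ≠ 1 := fun h => h1 (by
    rw [show u = n * (n⁻¹ * u * n) * n⁻¹ by group, h]; simp)
  have h := conj_mem_centralizer (g := n) (mem_rt.1 hr _ (D.eG_conj hu' h1')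
    (D.eG_comm hu' D.t_mem_eG))
  rwa [show n * (n⁻¹ * u * n) * n⁻¹ = u by group] at h

theorem rt_le : rt t ≤ Subgroup.centralizer (wc t : Set G) := fun _ hr =>
  mem_rt.1 hr t (IsConj.refl t) rfl

theorem rt_inf {e : G} (he : e ∈ D.eG) (hr : e ∈ rt t) : e = 1 := by
  by_contra h1
  have hc : ∀ u ∈ D.eG, u ≠ 1 → e = u := fun u hu hu1 => by
    have hm : e ∈ Subgroup.centralizer (wc u : Set G) :=
      mem_rt.1 hr u (D.eG_conj hu hu1) (D.eG_comm hu D.t_mem_eG)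
    have Du := D.of (D.eG_conj hu hu1)
    obtain ⟨k, hk⟩ := Du.val_surj (D.eG_le_wc hu hu1 he)
    rcases center_mdl k (fun n => Du.val_inj (by
      rw [map_mul, map_mul, hk]
      exact (Subgroup.mem_centralizer_iff.1 hm _ (Du.val_mem n)).symm)) with rfl | rfl
    · exact absurd (hk.symm.trans (map_one _)) h1
    · rw [← hk, Du.val_tau]
  have h2 : D.val vM = t := (hc (D.val vM) ⟨_, inE_gens.2.1, rfl⟩ (fun h => vM_ne.1
    (D.val_inj (h.trans (map_one _).symm)))).symm.trans (hc t D.t_mem_eG D.ne_one)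
  exact vM_ne.2.1 (D.val_inj (h2.trans D.val_tau.symm))

/-- A transitive element of the normalizer inside the neighbourhood subgroup. -/
theorem exists_g : ∃ g ∈ Subgroup.normalizer (D.eG : Set G), g ∈ nb t ∧
    (∀ u ∈ D.eG, u ≠ 1 → ∃ k : ℕ, g ^ k * t * (g ^ k)⁻¹ = u) ∧
    (∀ e ∈ D.eG, g * e * g⁻¹ = e → e = 1) ∧
    (∀ y ∈ Subgroup.centralizer (D.eG : Set G), ∃ e ∈ D.eG, g * y * g⁻¹ = e * y) ∧
    (∃ k : ℕ, (g ^ k)⁻¹ * (D.x3⁻¹ * g * D.x3) ∈ Subgroup.centralizer (D.eG : Set G)) := by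
  classical
  obtain ⟨γ, hγ, hnorm, horb, -, -⟩ := D.exists_seven
  set v : G := D.val vM with hv
  have hvE : v ∈ D.eG := ⟨_, inE_gens.2.1, rfl⟩
  have hv1 : v ≠ 1 := fun h => vM_ne.1 (D.val_inj (h.trans (map_one _).symm))
  obtain ⟨n, hn, hnv⟩ := D.exists_norm hvE hv1
  set x := D.x3
  set x' := n * x * n⁻¹ with hx'
  have hxW : x ∈ wc t := D.val_mem _
  have hx'W : x' ∈ wc v := by
    rw [← hnv, wc_conj]
    exact ⟨x, hxW, rfl⟩
  have hx'N : x' ∈ Subgroup.normalizer (D.eG : Set G) :=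
    mul_mem (mul_mem hn D.x3_norm) (inv_mem hn)
  set g := x * x' * x⁻¹ * x'⁻¹ with hg
  have hgN : g ∈ Subgroup.normalizer (D.eG : Set G) :=
    mul_mem (mul_mem (mul_mem D.x3_norm hx'N) (inv_mem D.x3_norm)) (inv_mem hx'N)
  have hgnb : g ∈ nb t := by
    have h1 : x ∈ nb t := wc_le_nb (IsConj.refl t) rfl hxW
    have h2 : x' ∈ nb t := wc_le_nb (D.eG_conj hvE hv1) (D.eG_comm hvE D.t_mem_eG) hx'W
    exact mul_mem (mul_mem (mul_mem h1 h2) (inv_mem h1)) (inv_mem h2)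
  -- the image lies in the group of order seven
  set X : D.act.range := ⟨D.act ⟨x, D.x3_norm⟩, _, rfl⟩
  set X' : D.act.range := ⟨D.act ⟨x', hx'N⟩, _, rfl⟩
  set Gg : D.act.range := ⟨D.act ⟨g, hgN⟩, _, rfl⟩
  have hGg : Gg = X * X' * X⁻¹ * X'⁻¹ := Subtype.ext (by
    show D.act ⟨g, hgN⟩ = D.act _ * D.act _ * (D.act _)⁻¹ * (D.act _)⁻¹
    rw [← map_inv, ← map_inv, ← map_mul, ← map_mul, ← map_mul]
    rfl)
  obtain ⟨i, -, hi⟩ := horb ((X' : MulAut D.eG) ⟨t, D.t_mem_eG⟩) fun h => D.ne_one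
    (congrArg Subtype.val ((X' : MulAut D.eG).map_eq_one_iff.1 h))
  set s : D.act.range := (γ ^ i)⁻¹ * X' with hs
  have hst : (s : MulAut D.eG) ⟨t, D.t_mem_eG⟩ = ⟨t, D.t_mem_eG⟩ := by
    show ((γ ^ i : D.act.range) : MulAut D.eG)⁻¹ ((X' : MulAut D.eG) ⟨t, D.t_mem_eG⟩) = _
    rw [← hi]
    simp
  have hsX : s * X = X * s := by
    obtain ⟨⟨S, hS⟩, hSs⟩ := s.2
    have hSt : S * t * S⁻¹ = t := by
      have h := hst
      rw [← hSs] at h
      exact congrArg Subtype.val h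
    obtain ⟨w, hw, hwS⟩ := D.stab_cases hS hSt
    have hwx : w * x = x * w := by
      simp only [List.mem_cons, List.not_mem_nil, or_false] at hw
      rcases hw with rfl | rfl | rfl
      · simp
      · simp [x]
      · rfl
    apply Subtype.ext
    show (s : MulAut D.eG) * D.act ⟨x, D.x3_norm⟩ = D.act ⟨x, D.x3_norm⟩ * s
    rw [← hSs]
    apply MulEquiv.ext
    rintro ⟨z, hz⟩
    apply Subtype.ext
    have hxz := (Subgroup.mem_normalizer_iff.1 D.x3_norm z).1 hz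
    have hSz : ∀ z' ∈ D.eG, S * z' * S⁻¹ = w⁻¹ * z' * w := fun z' hz' => by
      have h := Subgroup.mem_centralizer_iff.1 hwS z' hz'
      calc S * z' * S⁻¹ = w⁻¹ * ((w * S) * z') * (w * S)⁻¹ * w := by group
        _ = w⁻¹ * z' * w := by rw [← h]; group
    show S * (x * z * x⁻¹) * S⁻¹ = x * (S * z * S⁻¹) * x⁻¹
    rw [hSz _ hxz, hSz _ hz]
    calc w⁻¹ * (x * z * x⁻¹) * w = w⁻¹ * (x * w) * (w⁻¹ * z * w) * (w⁻¹ * (x * w))⁻¹ := by group
      _ = x * (w⁻¹ * z * w) * x⁻¹ := by rw [← hwx, inv_mul_cancel_left]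
  obtain ⟨m, hm⟩ := hnorm X
  have hgam : ∃ j : ℤ, Gg = γ ^ j := by
    refine ⟨(m * i : ℕ) + -(i : ℤ), ?_⟩
    rw [hGg, show X' = γ ^ i * s by rw [hs, mul_inv_cancel_left], zpow_add, zpow_neg,
      zpow_natCast, zpow_natCast, pow_mul, ← hm, conj_pow]
    calc X * (γ ^ i * s) * X⁻¹ * (γ ^ i * s)⁻¹
        = X * γ ^ i * (s * X⁻¹) * s⁻¹ * (γ ^ i)⁻¹ := by group
      _ = X * γ ^ i * (X⁻¹ * s) * s⁻¹ * (γ ^ i)⁻¹ := by
        rw [(Commute.inv_right (show Commute s X from hsX)).eq]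
      _ = X * γ ^ i * X⁻¹ * (γ ^ i)⁻¹ := by group
  have hne : Gg ≠ 1 := fun h => by
    rw [hGg, mul_inv_eq_one, mul_inv_eq_iff_eq_mul] at h
    -- commuting actions would let the first fix the second involution
    set e := x * v * x⁻¹ with he
    have heE : e ∈ D.eG := (Subgroup.mem_normalizer_iff.1 D.x3_norm v).1 hvE
    have hx'v : x' * v * x'⁻¹ = v := by
      rw [(D.of (D.eG_conj hvE hv1)).comm_t hx'W, mul_inv_cancel_right]
    have hx'e : x' * e * x'⁻¹ = e := by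
      have h' : x * (x' * v * x'⁻¹) * x⁻¹ = x' * (x * v * x⁻¹) * x'⁻¹ :=
        congrArg (fun f : D.act.range => (((f : MulAut D.eG) ⟨v, hvE⟩ : D.eG) : G)) h
      rw [hx'v] at h'
      exact h'.symm
    have hfix : x * (n⁻¹ * e * n) * x⁻¹ = n⁻¹ * e * n := by
      conv_rhs => rw [← hx'e, hx']
      group
    have hmem : n⁻¹ * e * n ∈ D.eG :=
      (Subgroup.mem_normalizer_iff.1 hn _).2 (by simpa [mul_assoc] using heE)
    rcases D.x3_fix hmem hfix with h0 | h0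
    · apply hv1
      rw [show v = x⁻¹ * (n * (n⁻¹ * e * n) * n⁻¹) * x by rw [he]; group, h0]
      simp
    · have : x * v * x⁻¹ = v := by
        rw [← he, show e = n * (n⁻¹ * e * n) * n⁻¹ by group, h0, hnv]
      rcases D.x3_fix hvE this with h2 | h2
      · exact hv1 h2
      · exact vM_ne.2.1 (D.val_inj (h2.trans D.val_tau.symm))
  obtain ⟨j, hj⟩ := hgam
  have hgen : γ ∈ Subgroup.zpowers Gg := by
    haveI : Fact (Nat.card (Subgroup.zpowers γ)).Prime :=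
      ⟨by rw [Nat.card_zpowers, hγ]; norm_num⟩
    have hmem : Gg ∈ Subgroup.zpowers γ := ⟨j, hj.symm⟩
    rcases ((Subgroup.zpowers Gg).subgroupOf (Subgroup.zpowers γ)).eq_bot_or_eq_top_of_prime_card with
      hb | hb
    · have : (⟨Gg, hmem⟩ : Subgroup.zpowers γ) ∈
          (Subgroup.zpowers Gg).subgroupOf (Subgroup.zpowers γ) := Subgroup.mem_zpowers Gg
      rw [hb, Subgroup.mem_bot] at this
      exact absurd (congrArg Subtype.val this) hne
    · exact Subgroup.subgroupOf_eq_top.1 hb (Subgroup.mem_zpowers γ)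
  obtain ⟨k, hk⟩ := (mem_powers_iff_mem_zpowers.2 hgen : γ ∈ Submonoid.powers Gg)
  change Gg ^ k = γ at hk
  have hGgpow : ∀ c : ℕ, ((Gg ^ c : D.act.range) : MulAut D.eG) =
      D.act ⟨g ^ c, pow_mem hgN c⟩ := fun c => by
    rw [SubgroupClass.coe_pow, show (Gg : MulAut D.eG) = D.act ⟨g, hgN⟩ from rfl, ← map_pow]
    rfl
  have htrans : ∀ u ∈ D.eG, u ≠ 1 → ∃ c : ℕ, g ^ c * t * (g ^ c)⁻¹ = u := fun u hu h1 => by
    obtain ⟨c, -, hc⟩ := horb ⟨u, hu⟩ (fun h => h1 (congrArg Subtype.val h))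
    rw [← hk, ← pow_mul, hGgpow] at hc
    exact ⟨k * c, congrArg Subtype.val hc⟩
  have hfixg : ∀ e ∈ D.eG, g * e * g⁻¹ = e → e = 1 := fun e he hge => by
    by_contra he1
    -- a fixed point would be fixed by the whole orbit
    have hall : ∀ c : ℕ, g ^ c * e * (g ^ c)⁻¹ = e := fun c => by
      induction c with
      | zero => simp
      | succ c ih =>
        rw [pow_succ, show g ^ c * g * e * (g ^ c * g)⁻¹ = g ^ c * (g * e * g⁻¹) * (g ^ c)⁻¹ by group,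
          hge, ih]
    obtain ⟨c, hc⟩ := htrans e he he1
    have ht : t = e := by
      have h := hall c
      rw [← hc] at h
      have h' : g ^ c * t * (g ^ c)⁻¹ = t := mul_left_cancel (mul_right_cancel h)
      rw [← hc, h']
    obtain ⟨c', hc'⟩ := htrans v hvE hv1
    have := hall c'
    rw [← ht] at this
    rw [this] at hc'
    exact vM_ne.2.1 (D.val_inj (hc'.symm.trans D.val_tau.symm))
  -- translation property
  have hP : ∀ z ∈ Subgroup.normalizer (D.eG : Set G),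
      (∃ u ∈ D.eG, u ≠ 1 ∧ z ∈ wc u) → ∀ y ∈ Subgroup.centralizer (D.eG : Set G),
      ∃ e ∈ D.eG, z * y * z⁻¹ = e * y := by
    rintro z hz ⟨u, hu, h1, hzu⟩ y hy
    obtain ⟨e, he, hey⟩ := D.exists_cent hu h1 hy
    have hc := Subgroup.mem_centralizer_iff.1 hey z hzu
    refine ⟨z * e⁻¹ * z⁻¹ * e,
      mul_mem ((Subgroup.mem_normalizer_iff.1 hz _).1 (inv_mem he)) he, ?_⟩
    calc z * y * z⁻¹ = z * e⁻¹ * (z⁻¹ * (z * (e * y))) * z⁻¹ := by group
      _ = z * e⁻¹ * z⁻¹ * e * y := by rw [hc]; group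
  have hmul : ∀ a b : G, a ∈ Subgroup.normalizer (D.eG : Set G) →
      (∀ y ∈ Subgroup.centralizer (D.eG : Set G), ∃ e ∈ D.eG, a * y * a⁻¹ = e * y) →
      (∀ y ∈ Subgroup.centralizer (D.eG : Set G), ∃ e ∈ D.eG, b * y * b⁻¹ = e * y) →
      ∀ y ∈ Subgroup.centralizer (D.eG : Set G), ∃ e ∈ D.eG, a * b * y * (a * b)⁻¹ = e * y := by
    intro a b haN ha hb y hy
    obtain ⟨e, he, hbe⟩ := hb y hy
    obtain ⟨f, hf, haf⟩ := ha y hy
    refine ⟨a * e * a⁻¹ * f, mul_mem ((Subgroup.mem_normalizer_iff.1 haN e).1 he) hf, ?_⟩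
    calc a * b * y * (a * b)⁻¹ = a * (b * y * b⁻¹) * a⁻¹ := by group
      _ = a * e * a⁻¹ * (a * y * a⁻¹) := by rw [hbe]; group
      _ = a * e * a⁻¹ * f * y := by rw [haf, ← mul_assoc]
  have Px := hP x D.x3_norm ⟨t, D.t_mem_eG, D.ne_one, hxW⟩
  have Pxi := hP x⁻¹ (inv_mem D.x3_norm) ⟨t, D.t_mem_eG, D.ne_one, inv_mem hxW⟩
  have Px' := hP x' hx'N ⟨v, hvE, hv1, hx'W⟩
  have Pxi' := hP x'⁻¹ (inv_mem hx'N) ⟨v, hvE, hv1, inv_mem hx'W⟩
  refine ⟨g, hgN, hgnb, htrans, hfixg, ?_, ?_⟩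
  · exact hmul _ _ (mul_mem (mul_mem D.x3_norm hx'N) (inv_mem D.x3_norm))
      (hmul _ _ (mul_mem D.x3_norm hx'N) (hmul _ _ D.x3_norm Px Px') Pxi) Pxi'
  · obtain ⟨m', hm'⟩ := hnorm X⁻¹
    obtain ⟨c, hc⟩ : ∃ c : ℕ, X⁻¹ * Gg * X⁻¹⁻¹ = Gg ^ c := by
      obtain ⟨q, hq⟩ : X⁻¹ * Gg * X⁻¹⁻¹ ∈ Subgroup.zpowers γ := by
        rw [hj, ← conj_zpow, hm']
        exact ⟨(m' : ℤ) * j, (zpow_mul γ _ _).trans (by rw [zpow_natCast])⟩
      have hmem : X⁻¹ * Gg * X⁻¹⁻¹ ∈ Subgroup.zpowers Gg := by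
        rw [← hq]
        exact zpow_mem hgen q
      obtain ⟨c, hc⟩ := (mem_powers_iff_mem_zpowers.2 hmem : _ ∈ Submonoid.powers Gg)
      exact ⟨c, hc.symm⟩
    refine ⟨c, Subgroup.mem_centralizer_iff.2 fun z hz => ?_⟩
    have h' : x⁻¹ * (g * (x * z * x⁻¹) * g⁻¹) * x⁻¹⁻¹ = g ^ c * z * (g ^ c)⁻¹ := by
      have hc' : D.act ⟨x⁻¹ * g * x, mul_mem (mul_mem (inv_mem D.x3_norm) hgN) D.x3_norm⟩ =
          D.act ⟨g ^ c, pow_mem hgN c⟩ := by
        rw [← hGgpow, ← hc, Subgroup.coe_mul, Subgroup.coe_mul, inv_inv]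
        show _ = (D.act ⟨x, D.x3_norm⟩)⁻¹ * D.act ⟨g, hgN⟩ * D.act ⟨x, D.x3_norm⟩
        rw [← map_inv, ← map_mul, ← map_mul]
        rfl
      have h : x⁻¹ * g * x * z * (x⁻¹ * g * x)⁻¹ = g ^ c * z * (g ^ c)⁻¹ :=
        congrArg Subtype.val (DFunLike.congr_fun hc' (⟨z, hz⟩ : D.eG))
      rw [← h]
      group
    calc z * ((g ^ c)⁻¹ * (x⁻¹ * g * x))
        = (g ^ c)⁻¹ * (g ^ c * z * (g ^ c)⁻¹) * (x⁻¹ * g * x) := by group
      _ = (g ^ c)⁻¹ * (x⁻¹ * g * x) * z := by rw [← h']; group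

/-- The centralizer of the weak closure. -/
theorem cent_wc {y : G} (hy : y ∈ Subgroup.centralizer (wc t : Set G)) :
    y ∈ rt t ∨ y * t ∈ rt t := by
  obtain ⟨g, hgN, -, htrans, hfix, hP, k, hk⟩ := D.exists_g
  have hyA := D.mem_C_eG hy
  obtain ⟨c, hc, hgy⟩ := hP y hyA
  let f : D.eG → D.eG := fun e =>
    ⟨e.1 * (g * e.1 * g⁻¹), mul_mem e.2 ((Subgroup.mem_normalizer_iff.1 hgN e.1).1 e.2)⟩
  have hf : Function.Injective f := fun a b h => by
    have h0 : a.1 * (g * a.1 * g⁻¹) = b.1 * (g * b.1 * g⁻¹) := congrArg Subtype.val h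
    have hab : g * (a.1 * b.1) * g⁻¹ = a.1 * b.1 := by
      have h2 : b.1 * a.1 * (a.1 * (g * a.1 * g⁻¹)) * (g * b.1 * g⁻¹) =
          b.1 * a.1 * (b.1 * (g * b.1 * g⁻¹)) * (g * b.1 * g⁻¹) := by rw [h0]
      have hl : b.1 * a.1 * (a.1 * (g * a.1 * g⁻¹)) * (g * b.1 * g⁻¹) =
          b.1 * (g * (a.1 * b.1) * g⁻¹) := by
        calc _ = b.1 * (a.1 * a.1) * (g * (a.1 * b.1) * g⁻¹) := by group
          _ = _ := by rw [D.eG_sq a.2, mul_one]
      have hr : b.1 * a.1 * (b.1 * (g * b.1 * g⁻¹)) * (g * b.1 * g⁻¹) = b.1 * (a.1 * b.1) := by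
        calc _ = b.1 * a.1 * b.1 * (g * (b.1 * b.1) * g⁻¹) := by group
          _ = _ := by rw [D.eG_sq b.2]; group
      rw [hl, hr] at h2
      exact mul_left_cancel h2
    have := hfix _ (mul_mem a.2 b.2) hab
    apply Subtype.ext
    rw [eq_inv_of_mul_eq_one_left this, inv_eq_of_mul_eq_one_right (D.eG_sq b.2)]
  obtain ⟨⟨e, he⟩, hfe⟩ := (Finite.injective_iff_surjective.1 hf) ⟨c, hc⟩
  have hfe' : e * (g * e * g⁻¹) = c := congrArg Subtype.val hfe
  set d := e * y with hd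
  have hgd : g * d * g⁻¹ = d := by
    have hge : g * e * g⁻¹ * c = e := by
      rw [← hfe', D.eG_comm ((Subgroup.mem_normalizer_iff.1 hgN e).1 he)
        (mul_mem he ((Subgroup.mem_normalizer_iff.1 hgN e).1 he)), mul_assoc e,
        D.eG_sq ((Subgroup.mem_normalizer_iff.1 hgN e).1 he), mul_one]
    calc g * d * g⁻¹ = g * e * g⁻¹ * (g * y * g⁻¹) := by rw [hd]; group
      _ = (g * e * g⁻¹ * c) * y := by rw [hgy, ← mul_assoc]
      _ = d := by rw [hge, hd]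
  -- the element of order three fixes `e`
  set x := D.x3
  have hxy : x * y * x⁻¹ = y := by
    rw [Subgroup.mem_centralizer_iff.1 hy x (D.val_mem _), mul_inv_cancel_right]
  have hxe : x * e * x⁻¹ ∈ D.eG := (Subgroup.mem_normalizer_iff.1 D.x3_norm e).1 he
  have hδ : x * e * x⁻¹ * e = 1 := by
    set q := (g ^ k)⁻¹ * (x⁻¹ * g * x) with hq
    have hgk : g ^ k * d * (g ^ k)⁻¹ = d := by
      rw [show g ^ k * d * (g ^ k)⁻¹ = d ↔ Commute (g ^ k) d from mul_inv_eq_iff_eq_mul]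
      exact Commute.pow_left (mul_inv_eq_iff_eq_mul.1 hgd) k
    have hdA : d ∈ Subgroup.centralizer (D.eG : Set G) := mul_mem
      (Subgroup.mem_centralizer_iff.2 fun z hz => D.eG_comm hz he) hyA
    have hr := D.comm_mem_rt hk hdA
    set r := q * d * q⁻¹ * d⁻¹ with hr'
    have h1 : x⁻¹ * g * x * d * (x⁻¹ * g * x)⁻¹ = (g ^ k * r * (g ^ k)⁻¹) * d := by
      rw [show x⁻¹ * g * x = g ^ k * q by rw [hq, mul_inv_cancel_left]]
      calc g ^ k * q * d * (g ^ k * q)⁻¹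
          = (g ^ k * r * (g ^ k)⁻¹) * (g ^ k * d * (g ^ k)⁻¹) := by rw [hr']; group
        _ = _ := by rw [hgk]
    set r2 := g ^ k * r * (g ^ k)⁻¹ with hr2
    have hr2m : r2 ∈ rt t := D.rt_conj (pow_mem hgN k) hr
    set d' := x * e * x⁻¹ * e with hd'
    have hxd : x * d * x⁻¹ = d' * d := by
      rw [hd', hd, show x * (e * y) * x⁻¹ = x * e * x⁻¹ * (x * y * x⁻¹) by group, hxy,
        show x * e * x⁻¹ * e * (e * y) = x * e * x⁻¹ * (e * e) * y by group, D.eG_sq he, mul_one]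
    have h2 : g * (x * d * x⁻¹) * g⁻¹ = (x * r2 * x⁻¹) * (x * d * x⁻¹) := by
      calc g * (x * d * x⁻¹) * g⁻¹ = x * (x⁻¹ * g * x * d * (x⁻¹ * g * x)⁻¹) * x⁻¹ := by group
        _ = x * (r2 * d) * x⁻¹ := by rw [h1]
        _ = _ := by group
    rw [hxd] at h2
    have hd'E : d' ∈ D.eG := mul_mem hxe he
    have h3 : g * d' * g⁻¹ * d'⁻¹ = x * r2 * x⁻¹ := by
      have h3' : g * d' * g⁻¹ * d = x * r2 * x⁻¹ * d' * d := by
        calc g * d' * g⁻¹ * d = g * d' * g⁻¹ * (g * d * g⁻¹) := by rw [hgd]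
          _ = g * (d' * d) * g⁻¹ := by group
          _ = _ := by rw [h2]; group
      rw [mul_right_cancel h3', mul_inv_cancel_right]
    have h4 : g * d' * g⁻¹ * d'⁻¹ = 1 := D.rt_inf
      (mul_mem ((Subgroup.mem_normalizer_iff.1 hgN _).1 hd'E) (inv_mem hd'E))
      (h3 ▸ D.rt_conj D.x3_norm hr2m)
    exact hfix d' hd'E (mul_inv_eq_one.1 h4)
  have hy1 : d ∈ Subgroup.centralizer (wc t : Set G) ∧ (e = 1 ∨ e = t) := by
    have h : e = 1 ∨ e = t := D.x3_fix he (by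
      rw [eq_inv_of_mul_eq_one_left hδ, inv_eq_of_mul_eq_one_right (D.eG_sq he)])
    refine ⟨mul_mem ?_ hy, h⟩
    rcases h with rfl | rfl
    · exact one_mem _
    · exact Subgroup.mem_centralizer_iff.2 fun w hw => D.comm_t hw
  have hdr : d ∈ rt t := D.mem_rt_of fun u hu h1 => by
    obtain ⟨c', hc'⟩ := htrans u hu h1
    have hcd : g ^ c' * d * (g ^ c')⁻¹ = d := by
      rw [show g ^ c' * d * (g ^ c')⁻¹ = d ↔ Commute (g ^ c') d from mul_inv_eq_iff_eq_mul]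
      exact Commute.pow_left (mul_inv_eq_iff_eq_mul.1 hgd) c'
    have h := conj_mem_centralizer (g := g ^ c') hy1.1
    rwa [hc', hcd] at h
  rcases hy1.2 with h | h
  · refine Or.inl ?_
    rwa [hd, h, one_mul] at hdr
  · refine Or.inr ?_
    rwa [hd, h, Subgroup.mem_centralizer_iff.1 hy t D.self_mem] at hdr

/-- The centralizer of the involution. -/
theorem cent_eq {y : G} (hy : y * t = t * y) : ∃ w ∈ wc t, ∃ r ∈ rt t, y = w * r := by
  obtain ⟨w, hw, hwy⟩ := D.cent_cases hy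
  rcases D.cent_wc hwy with h | h
  · exact ⟨w⁻¹, inv_mem hw, w * y, h, by rw [inv_mul_cancel_left]⟩
  · have hc : w * y * t = t * (w * y) := by
      rw [mul_assoc, hy, ← mul_assoc, D.comm_t hw, mul_assoc]
    refine ⟨w⁻¹ * t, mul_mem (inv_mem hw) D.self_mem, w * y * t, h, ?_⟩
    rw [hc, show w⁻¹ * t * (t * (w * y)) = w⁻¹ * (t * t) * (w * y) by group, D.tt, mul_one,
      inv_mul_cancel_left]

theorem wc_inf_rt {z : G} (hz : z ∈ wc t) (hr : z ∈ rt t) : z = 1 := by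
  obtain ⟨m, rfl⟩ := D.val_surj hz
  have hc := D.rt_le hr
  rcases center_mdl m (fun n => D.val_inj (by
    rw [map_mul, map_mul]
    exact (Subgroup.mem_centralizer_iff.1 hc _ (D.val_mem n)).symm)) with rfl | rfl
  · exact map_one _
  · rw [D.val_tau] at hr ⊢
    exact D.rt_inf D.t_mem_eG hr

/-- The subgroup does not change along an edge. -/
theorem rt_adj {u : G} (hu : IsConj t u) (hut : u * t = t * u) : rt t ≤ rt u := by
  intro r hr
  obtain ⟨m, rfl, hm2, hm1⟩ := D.comm_iff.1 ⟨hu, hut⟩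
  obtain ⟨n, hn⟩ := conj_into_E m hm2
  set w := D.val n with hw
  set u' := w * D.val m * w⁻¹ with hu'
  have hu'E : u' ∈ D.eG := ⟨_, hn, by rw [map_mul, map_mul, map_inv]⟩
  have hu'1 : u' ≠ 1 := fun h' =>
    hm1 (D.val_inj ((mul_eq_left.1 (mul_inv_eq_one.1 h')).trans (map_one D.val).symm))
  rw [mem_rt]
  intro v hv hvu
  have hrw : w * r = r * w := Subgroup.mem_centralizer_iff.1 (D.rt_le hr) w (D.val_mem n)
  set v' := w * v * w⁻¹ with hv'
  have hv'c : IsConj t v' := (hu.trans hv).trans (isConj_iff.2 ⟨w, rfl⟩)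
  have hv'u : v' * u' = u' * v' := by
    calc v' * u' = w * (v * D.val m) * w⁻¹ := by rw [hv', hu']; group
      _ = w * (D.val m * v) * w⁻¹ := by rw [hvu]
      _ = u' * v' := by rw [hv', hu']; group
  have Du := D.of (D.eG_conj hu'E hu'1)
  have hv'W : v' ∈ wc u' := mem_wc_of_comm D hv'c (D.eG_conj hu'E hu'1) hv'u
  -- move into the elementary subgroup
  obtain ⟨q, hq⟩ := Du.val_surj hv'W
  obtain ⟨hv2, hv1⟩ := D.sq_of_conj hv'c
  obtain ⟨p, hp⟩ := conj_into_E q (Du.val_inj (by rw [map_mul, hq, hv2, map_one]))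
  set w1 := Du.val p
  have h8 : Nat.card (Du.eG) = 8 := Du.eG_card
  obtain ⟨w2, hw2, hw2z⟩ := Du.conj_eight Du.eG_le (D.eG_le_wc hu'E hu'1) h8 D.eG_card
  have hmem : w2 * (w1 * v' * w1⁻¹) * w2⁻¹ ∈ D.eG :=
    (hw2z _).1 ⟨_, hp, by rw [map_mul, map_mul, map_inv, hq]⟩
  set v'' := w2 * (w1 * v' * w1⁻¹) * w2⁻¹ with hv''
  have hne : v'' ≠ 1 := fun h => hv1 (by
    rw [show v' = (w2 * w1)⁻¹ * v'' * (w2 * w1) by rw [hv'']; group, h]
    simp)
  have hr'' : r ∈ Subgroup.centralizer (wc v'' : Set G) :=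
    mem_rt.1 hr _ (D.eG_conj hmem hne) (D.eG_comm hmem D.t_mem_eG)
  have hru : r ∈ Subgroup.centralizer (wc u' : Set G) :=
    mem_rt.1 hr _ (D.eG_conj hu'E hu'1) (D.eG_comm hu'E D.t_mem_eG)
  have hrz : Commute (w2 * w1 * w) r := by
    refine Commute.mul_left (Commute.mul_left ?_ ?_) hrw
    · exact Subgroup.mem_centralizer_iff.1 hru w2 hw2
    · exact Subgroup.mem_centralizer_iff.1 hru w1 (Du.val_mem p)
  have h := conj_mem_centralizer (g := (w2 * w1 * w)⁻¹) hr''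
  have e1 : (w2 * w1 * w)⁻¹ * v'' * (w2 * w1 * w)⁻¹⁻¹ = v := by rw [hv'', hv']; group
  have e2 : (w2 * w1 * w)⁻¹ * r * (w2 * w1 * w)⁻¹⁻¹ = r := by
    rw [inv_inv, mul_assoc, ← hrz.eq, inv_mul_cancel_left]
  rwa [e1, e2] at h

/-- The involution is a commutator at one of its neighbours. -/
theorem mem_commutator : ∃ u, IsConj t u ∧ u * t = t * u ∧
    ∃ a ∈ wc u, ∃ b ∈ wc u, a * b * a⁻¹ * b⁻¹ = t := by
  obtain ⟨g, hgN, -, htrans, -, -⟩ := D.exists_g
  obtain ⟨c, hc⟩ := htrans (D.val vM) ⟨_, inE_gens.2.1, rfl⟩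
    (fun h => vM_ne.1 (D.val_inj (h.trans (map_one _).symm)))
  set n := (g ^ c)⁻¹ with hn
  have hnN : n ∈ Subgroup.normalizer (D.eG : Set G) := inv_mem (pow_mem hgN c)
  have huE : n * t * n⁻¹ ∈ D.eG := (Subgroup.mem_normalizer_iff.1 hnN t).1 D.t_mem_eG
  obtain ⟨a, b, hab⟩ := comm_v
  refine ⟨n * t * n⁻¹, isConj_iff.2 ⟨n, rfl⟩, D.eG_comm huE D.t_mem_eG, n * D.val a * n⁻¹,
    by rw [wc_conj]; exact ⟨_, D.val_mem a, rfl⟩, n * D.val b * n⁻¹,
    by rw [wc_conj]; exact ⟨_, D.val_mem b, rfl⟩, ?_⟩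
  have h1 : D.val a * D.val b * (D.val a)⁻¹ * (D.val b)⁻¹ = D.val vM := by
    simp only [← map_inv, ← map_mul, hab]
  calc n * D.val a * n⁻¹ * (n * D.val b * n⁻¹) * (n * D.val a * n⁻¹)⁻¹ * (n * D.val b * n⁻¹)⁻¹
      = n * (D.val a * D.val b * (D.val a)⁻¹ * (D.val b)⁻¹) * n⁻¹ := by group
    _ = n * (g ^ c * t * (g ^ c)⁻¹) * n⁻¹ := by rw [h1, hc]
    _ = t := by rw [hn]; group

/-- Neighbours are conjugate under the neighbourhood subgroup. -/
theorem conj_adj {u : G} (hu : IsConj t u) (hut : u * t = t * u) :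
    ∃ h ∈ nb t, h * t * h⁻¹ = u := by
  obtain ⟨g, -, hgnb, htrans, -, -⟩ := D.exists_g
  obtain ⟨m, rfl, hm2, hm1⟩ := D.comm_iff.1 ⟨hu, hut⟩
  obtain ⟨n, hn⟩ := conj_into_E m hm2
  obtain ⟨c, hc⟩ := htrans (D.val n * D.val m * (D.val n)⁻¹)
    ⟨_, hn, by rw [map_mul, map_mul, map_inv]⟩ fun h' =>
    hm1 (D.val_inj ((mul_eq_left.1 (mul_inv_eq_one.1 h')).trans (map_one D.val).symm))
  refine ⟨(D.val n)⁻¹ * g ^ c, mul_mem
    (inv_mem (wc_le_nb (IsConj.refl t) rfl (D.val_mem n))) (pow_mem hgnb c), ?_⟩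
  rw [show (D.val n)⁻¹ * g ^ c * t * ((D.val n)⁻¹ * g ^ c)⁻¹ =
    (D.val n)⁻¹ * (g ^ c * t * (g ^ c)⁻¹) * D.val n by group, hc]
  group

end Wk

end CfsgLib.JanWeak
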