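import Cfsg.Prelude.Def_Spor_J1
import Cfsg.Prelude.Def_KGroupFacts
import Cfsg.Agent.S2039
import Cfsg.Agent.Lib.JanWeak.Connected

/-!
# The normal closure is centreless, and is `J₁` as soon as its central quotient is
-/

set_option autoImplicit false
set_option linter.unusedSectionVars false
set_option linter.style.haveILetI false

namespace CfsgLib.JanWeak

universe u

variable {G : Type u} [Group G] [Finite G] {t : G}

/-- A finite perfect central extension of `J₁` is `J₁`. -/
theorem cover_bijective {Γ : Type u} [Group Γ] [Finite Γ] (σ : Γ →* Cfsg.Spor.J1)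
    (hs : Function.Surjective σ) (hc : σ.ker ≤ Subgroup.center Γ) (hp : σ.ker ≤ commutator Γ) :
    Function.Bijective σ := by
  haveI : Small.{0} Γ := Small.mk' (Finite.exists_equiv_fin Γ).choose_spec.some
  let ψ' : Shrink.{0} Γ ≃* Γ := Shrink.mulEquiv
  haveI : Finite (Shrink.{0} Γ) := Finite.of_equiv Γ ψ'.symm.toEquiv
  let σ' : Shrink.{0} Γ →* Cfsg.Spor.J1 := σ.comp ψ'.toMonoidHom
  have hstem : Cfsg.IsStemExtension σ' := by
    refine ⟨hs.comp ψ'.surjective, fun a ha => ?_, fun a ha => ?_⟩
    · refine Subgroup.mem_center_iff.2 fun b => ψ'.injective ?_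
      rw [map_mul, map_mul]
      exact Subgroup.mem_center_iff.1 (hc (show ψ' a ∈ σ.ker from ha)) (ψ' b)
    · have h1 : ψ' a ∈ (commutator (Shrink.{0} Γ)).map ψ'.toMonoidHom := by
        rw [commutator_def, Subgroup.map_commutator, Subgroup.map_top_of_surjective _ ψ'.surjective,
          ← commutator_def]
        exact hp (show ψ' a ∈ σ.ker from ha)
      obtain ⟨b, hb, hba⟩ := h1
      rwa [← ψ'.injective hba]
  obtain ⟨π, hπ⟩ := Cfsg.Agent.S2039.result.2 _ σ' hstem
  haveI : Subsingleton (Multiplicative (ZMod 1)) := inferInstanceAs (Subsingleton (ZMod 1))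
  haveI : Subsingleton σ'.ker := hπ.subsingleton
  refine ⟨(injective_iff_map_eq_one σ).2 fun a ha => ?_, hs⟩
  have h : (⟨ψ'.symm a, show σ (ψ' (ψ'.symm a)) = 1 by rw [ψ'.apply_symm_apply]; exact ha⟩ : σ'.ker) =
      1 := Subsingleton.elim _ _
  have h' := congrArg ψ' (congrArg Subtype.val h)
  simpa using h'

theorem Wk.normalClosure_isoJ1 (D : Wk t)
    (hQ : Cfsg.Spor.IsoJ1 (Hc t ⧸ Subgroup.center (Hc t))) :
    Cfsg.Spor.IsoJ1 (Subgroup.normalClosure ({t} : Set G)) := by
  obtain ⟨e⟩ := hQ
  let σ : Hc t →* Cfsg.Spor.J1 := e.toMonoidHom.comp (QuotientGroup.mk' _)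
  have hker : σ.ker ≤ Subgroup.center (Hc t) := fun a ha => by
    have h : e (QuotientGroup.mk a) = e 1 := (show σ a = 1 from ha).trans (map_one e).symm
    exact (QuotientGroup.eq_one_iff a).1 (e.injective h)
  have hperf : commutator (Hc t) = ⊤ := by
    refine Subgroup.map_injective (Hc t).subtype_injective ?_
    rw [Subgroup.map_subtype_commutator, ← MonoidHom.range_eq_map, Subgroup.range_subtype]
    exact le_antisymm (Subgroup.commutator_le_self (Hc t))
      ((Subgroup.closure_le _).2 fun a ha => D.perfect ha)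
  have hb := cover_bijective σ (e.surjective.comp (QuotientGroup.mk'_surjective _)) hker
    (by rw [hperf]; exact le_top)
  exact ⟨(MulEquiv.subgroupCongr (normalClosure_eq D)).trans (MulEquiv.ofBijective σ hb)⟩

end CfsgLib.JanWeak

namespace CfsgLib.JanWeak

open CfsgLib.JanOrder

/-- The Sylow 2-subgroups of a group of order 175560 with an involution centralizer `2 × A₅`. -/
theorem exists_sylow_of_mdl {Q : Type*} [Group Q] [Finite Q] (hcard : Nat.card Q = 175560) {a : Q}
    (e : Subgroup.centralizer ({a} : Set Q) ≃* Mdl) :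
    ∃ S : Sylow 2 Q, IsMulCommutative (S : Subgroup Q) ∧ Nat.card S = 8 := by
  haveI : Fact (Nat.Prime 2) := ⟨Nat.prime_two⟩
  let f : Mdl →* Q := (Subgroup.centralizer ({a} : Set Q)).subtype.comp e.symm.toMonoidHom
  have hinj : Function.Injective f := fun _ _ h => e.symm.injective (Subtype.ext h)
  have h8 : Nat.card (eSub.map f) = 8 := by
    rw [← card_eSub]
    exact Nat.card_congr (eSub.equivMapOfInjective f hinj).toEquiv.symm
  refine ⟨Sylow.ofCard (eSub.map f) ?_, ⟨⟨fun x y => Subtype.ext ?_⟩⟩, h8⟩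
  · rw [h8, hcard, show (175560 : ℕ) = 2 ^ 3 * 21945 from rfl,
      Nat.factorization_mul (by norm_num) (by norm_num), Nat.Prime.factorization_pow Nat.prime_two]
    simp [Nat.factorization_eq_zero_of_not_dvd (show ¬ 2 ∣ 21945 by norm_num)]
  · obtain ⟨p, hp, hpx⟩ := x.2
    obtain ⟨q, hq, hqy⟩ := y.2
    show (x : Q) * y = y * x
    rw [← hpx, ← hqy, ← map_mul, ← map_mul, (inE_mul p hp q hq).2]

end CfsgLib.JanWeak
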